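import Groth.Agent.SGAGen20.Gen
import Groth.Agent.GrpSchLib.FieldComp
import Groth.Agent.SGAHom20.Dominant

/-!
# The generated subgroup of a connected scheme is connected
-/

set_option backward.isDefEq.respectTransparency false
set_option backward.isDefEq.respectTransparency.types false

universe u

open CategoryTheory AlgebraicGeometry MonoidalCategory CartesianMonoidalCategory MonObj GrpObj
open Groth.Agent.GrpSchLib (IsMaxPt exists_isMaxPt)
open scoped CategoryTheory.Obj

noncomputable section

namespace Groth.Agent.SGAGen20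

variable {k : Type u} [Field k] {G X : Over (Spec (CommRingCat.of k))} [GrpObj G] (f : X ⟶ G)
  [GeometricallyReduced X.hom]

/-- A smallest subgroup containing a morphism is geometrically reduced, and lives on the closure of the words. -/
theorem smallest_props (Γ : Over (Spec (CommRingCat.of k))) [GrpObj Γ] (i : Γ ⟶ G) [IsMonHom i]
    [IsClosedImmersion i.left] (hf : ∃ f' : X ⟶ Γ, f' ≫ i = f)
    (hmin : ∀ (Γ' : Over (Spec (CommRingCat.of k))) (_ : GrpObj Γ') (i' : Γ' ⟶ G), IsMonHom i' → IsClosedImmersion i'.left →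
        (∃ f'' : X ⟶ Γ', f'' ≫ i' = f) → ∃ j : Γ ⟶ Γ', j ≫ i' = i) :
    GeometricallyReduced Γ.hom ∧ IsReduced Γ.left ∧ Set.range i.left = closure (wordSet f) := by
  obtain ⟨P, _, p, hp, hpc, hpf, hgr, hred, hr, hPmin⟩ := exists_generated f
  obtain ⟨j, hj⟩ := hmin P inferInstance p hp hpc hpf
  obtain ⟨j', hj'⟩ := hPmin Γ inferInstance i ‹_› ‹_› hf
  have : Mono i := (Over.forget _).mono_of_mono_map (inferInstanceAs (Mono i.left))
  have : Mono p := (Over.forget _).mono_of_mono_map (inferInstanceAs (Mono p.left))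
  let e : Γ ≅ P := ⟨j, j', by rw [← cancel_mono i, Category.assoc, hj', hj, Category.id_comp],
    by rw [← cancel_mono p, Category.assoc, hj, hj', Category.id_comp]⟩
  have : IsIso e.hom.left := ((Over.forget _).mapIso e).isIso_hom
  have hred' : IsReduced Γ.left := isReduced_of_isOpenImmersion e.hom.left
  refine ⟨?_, hred', ?_⟩
  · refine geometricallyReduced_of_dense (J := PUnit.{1}) (fun _ => P.left) (fun _ => e.inv.left)
      (fun U ⟨y, hy⟩ => ⟨⟨⟩, e.hom.left y, ?_⟩) fun _ => by rw [Over.w e.inv]; exact hgr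
    rwa [← Scheme.Hom.comp_apply, ← Over.comp_left, e.hom_inv_id]
  · rw [← hr]
    refine subset_antisymm ?_ ?_
    · rw [← hj]; rintro _ ⟨y, rfl⟩; exact ⟨_, rfl⟩
    · rw [← hj']; rintro _ ⟨y, rfl⟩; exact ⟨_, rfl⟩

/-- The smallest subgroup containing a connected scheme through the unit is connected. -/
theorem connectedSpace_smallest [ConnectedSpace X.left] (x : 𝟙_ (Over (Spec (CommRingCat.of k))) ⟶ X)
    (hx : x ≫ f = η[G]) (Γ : Over (Spec (CommRingCat.of k))) [GrpObj Γ] (i : Γ ⟶ G) [IsMonHom i]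
    [IsClosedImmersion i.left] (hf : ∃ f' : X ⟶ Γ, f' ≫ i = f)
    (hmin : ∀ (Γ' : Over (Spec (CommRingCat.of k))) (_ : GrpObj Γ') (i' : Γ' ⟶ G), IsMonHom i' → IsClosedImmersion i'.left →
        (∃ f'' : X ⟶ Γ', f'' ≫ i' = f) → ∃ j : Γ ⟶ Γ', j ≫ i' = i) :
    ConnectedSpace Γ.left := by
  obtain ⟨hgr, hred, -⟩ := smallest_props f Γ i hf hmin
  obtain ⟨f', hf'⟩ := hf
  obtain ⟨g, hg, hge⟩ := exists_isMaxPt (η[Γ].left (IsLocalRing.closedPoint k))
  let C : TopologicalSpace.Closeds Γ.left := ⟨closure {g}, isClosed_closure⟩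
  let ι₀ := (Scheme.IdealSheafData.vanishingIdeal C).subschemeι
  let T : Over (Spec (CommRingCat.of k)) := Over.mk (ι₀ ≫ Γ.hom)
  let j : T ⟶ Γ := Over.homMk ι₀ rfl
  have : IsReduced T.left := H23.RedSub.isReduced_vanishingIdeal C
  have : IsClosedImmersion j.left := inferInstanceAs (IsClosedImmersion ι₀)
  have hr : Set.range j.left = closure {g} := H23.RedSub.range_vanishingIdeal C
  have : GeometricallyReduced T.hom := by
    have : Flat (Γ.left.fromSpecResidueField g) := SGAHom20.flat_fromSpecResidueField_of_isMaxPt hg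
    obtain ⟨l, hl⟩ := H23.RedSub.exists_lift_closed (Γ.left.fromSpecResidueField g) j.left (by
      rw [hr, Scheme.range_fromSpecResidueField]; exact subset_closure)
    refine geometricallyReduced_of_dense (J := PUnit.{1}) (fun _ => Spec (Γ.left.residueField g)) (fun _ => l)
      (fun U ⟨t, ht⟩ => ⟨⟨⟩, IsLocalRing.closedPoint _, ?_⟩) fun _ => ⟨fun K _ q Z a b hsq => ?_⟩
    · have hl0 : j.left (l (IsLocalRing.closedPoint _)) = g := by
        rw [← Scheme.Hom.comp_apply, hl, Scheme.fromSpecResidueField_apply]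
      refine (j.left.isClosedEmbedding.isInducing.specializes_iff.mp ?_ : _ ⤳ t).mem_open U.2 ht
      rw [hl0]
      exact specializes_iff_mem_closure.mpr (hr.subset ⟨t, rfl⟩)
    · have e : l ≫ T.hom = Γ.left.fromSpecResidueField g ≫ Γ.hom := by
        rw [← Over.w j, ← Category.assoc, hl]
      have : IsReduced (Limits.pullback Γ.hom q) :=
        GeometricallyReduced.geometrically_isReduced (f := Γ.hom) _ _ _ (.of_hasPullback _ _)
      have e2 := (IsPullback.of_hasPullback (Γ.left.fromSpecResidueField g) (Limits.pullback.fst Γ.hom q)).flip.paste_horiz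
        (IsPullback.of_hasPullback Γ.hom q).flip
      rw [e] at hsq
      have : IsReduced (Limits.pullback (Γ.left.fromSpecResidueField g) (Limits.pullback.fst Γ.hom q)) :=
        isReduced_of_flat_preimmersion (Limits.pullback.snd _ _)
      exact isReduced_of_isOpenImmersion (hsq.isoPullback ≪≫ e2.flip.isoPullback.symm).hom
  have : IsReduced (T ⊗ T).left := isReduced_pullback_of_geometricallyReduced T.hom
  have : IsReduced (𝟙_ (Over (Spec (CommRingCat.of k)))).left := inferInstanceAs (IsReduced (Spec (CommRingCat.of k)))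
  have : Mono j := (Over.forget _).mono_of_mono_map (inferInstanceAs (Mono j.left))
  have : Mono i := (Over.forget _).mono_of_mono_map (inferInstanceAs (Mono i.left))
  obtain ⟨e, he⟩ := exists_lift_of_reduced η[Γ] j (by
    rw [hr]
    rintro _ ⟨p, rfl⟩
    rw [@Subsingleton.elim (Spec (CommRingCat.of k)) inferInstance p (IsLocalRing.closedPoint k)]
    exact hge.mem_closure)
  obtain ⟨m, hm⟩ := exists_lift_of_reduced ((fst T T ≫ j) * (snd T T ≫ j)) j (by
    rw [hr]
    rintro _ ⟨z, rfl⟩
    have e : (fst T T ≫ j) * (snd T T ≫ j) = (j ⊗ₘ j) ≫ μ[Γ] := by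
      rw [Hom.mul_def]; congr 1
    rw [e, Over.comp_left, Scheme.Hom.comp_apply]
    refine GrpSchLib.mul_mem_closure hg hge ?_
    rw [← hr, ← GrpSchLib.range_tensorHom]
    exact ⟨z, rfl⟩)
  obtain ⟨v, hv⟩ := exists_lift_of_reduced j⁻¹ j (by
    rw [hr]
    rintro _ ⟨z, rfl⟩
    rw [Hom.inv_def, Over.comp_left, Scheme.Hom.comp_apply]
    exact GrpSchLib.inv_mem_closure hg hge (hr.subset ⟨z, rfl⟩))
  obtain ⟨str, hj⟩ := GrpSchLib.exists_grpObj_of_mono j e he m hm v hv
  have hxe : x ≫ f' = η[Γ] := by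
    rw [← cancel_mono i, Category.assoc, hf', hx, IsMonHom.one_hom]
  have := isReduced_of_geometricallyReduced X.hom
  obtain ⟨f'', hf''⟩ := exists_lift_of_reduced f' j (by
    rw [hr, ← GrpSchLib.connectedComponent_one hg hge]
    refine (isPreconnected_range f'.left.continuous).subset_connectedComponent ⟨x.left (IsLocalRing.closedPoint k), ?_⟩
    rw [← Scheme.Hom.comp_apply, ← Over.comp_left, hxe])
  obtain ⟨u, hu⟩ := hmin T str (j ≫ i) inferInstance (by rw [Over.comp_left]; infer_instance)
    ⟨f'', by rw [← Category.assoc, hf'', hf']⟩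
  have huniv : closure ({g} : Set Γ.left) = Set.univ := Set.eq_univ_of_forall fun y => by
    rw [← hr]
    refine ⟨u.left y, i.left.isClosedEmbedding.injective ?_⟩
    rw [← Scheme.Hom.comp_apply, ← Scheme.Hom.comp_apply, ← Over.comp_left, ← Over.comp_left, hu]
  have : IrreducibleSpace Γ.left := by
    rw [irreducibleSpace_def, Set.top_eq_univ, ← huniv]
    exact isIrreducible_singleton.closure
  infer_instance

end Groth.Agent.SGAGen20
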