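import Groth.Agent.SGAGen20.Reduced
import Groth.Agent.GrpSchLib.MonoSubgroup
import Groth.Agent.H23.RedSub
import Mathlib.AlgebraicGeometry.Group.Abelian

/-!
# The closed subgroup generated by a geometrically reduced scheme over a field
-/

set_option backward.isDefEq.respectTransparency false
set_option backward.isDefEq.respectTransparency.types false

universe u

open CategoryTheory AlgebraicGeometry MonoidalCategory CartesianMonoidalCategory MonObj GrpObj
open scoped CategoryTheory.Obj

noncomputable section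

namespace Groth.Agent.SGAGen20

variable {k : Type u} [Field k] {G X : Over (Spec (CommRingCat.of k))}

/-- Formal words in one letter. -/
inductive Word : Type
  | one
  | gen
  | inv (a : Word)
  | mul (a b : Word)

/-- The parameter scheme of a word. -/
def Word.obj (X : Over (Spec (CommRingCat.of k))) : Word → Over (Spec (CommRingCat.of k))
  | .one => 𝟙_ _
  | .gen => X
  | .inv a => a.obj X
  | .mul a b => a.obj X ⊗ b.obj X

/-- The morphism defined by a word. -/
def Word.hom [GrpObj G] (f : X ⟶ G) : (w : Word) → (w.obj X ⟶ G)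
  | .one => η[G]
  | .gen => f
  | .inv a => (a.hom f)⁻¹
  | .mul a b => (fst _ _ ≫ a.hom f) * (snd _ _ ≫ b.hom f)

theorem geometricallyReduced_obj [GeometricallyReduced X.hom] : ∀ w : Word, GeometricallyReduced (w.obj X).hom
  | .one => ⟨fun K _ q T a b hsq => by
      have : IsIso (Word.obj X .one).hom := inferInstanceAs (IsIso (𝟙 (Spec (CommRingCat.of k))))
      have : IsIso b := hsq.isIso_snd_of_isIso
      exact isReduced_of_isOpenImmersion b⟩
  | .gen => ‹_›
  | .inv a => geometricallyReduced_obj a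
  | .mul a b => by
      have := geometricallyReduced_obj a
      have := geometricallyReduced_obj b
      exact geometricallyReduced_comp (b.obj X).hom (a.obj X).hom

theorem isReduced_obj [GeometricallyReduced X.hom] (w : Word) : IsReduced (w.obj X).left :=
  have := geometricallyReduced_obj (X := X) w
  isReduced_of_geometricallyReduced (w.obj X).hom

/-- Two dense families give a dense family in the product. -/
theorem exists_mem_tensor {P Q : Over (Spec (CommRingCat.of k))} {J J' : Type*} {A : J → Over (Spec (CommRingCat.of k))}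
    {B : J' → Over (Spec (CommRingCat.of k))} (a : ∀ j, A j ⟶ P) (b : ∀ j, B j ⟶ Q)
    (ha : ∀ U : P.left.Opens, (U : Set P.left).Nonempty → ∃ j x, (a j).left x ∈ U)
    (hb : ∀ U : Q.left.Opens, (U : Set Q.left).Nonempty → ∃ j x, (b j).left x ∈ U)
    (U : (P ⊗ Q).left.Opens) (hU : (U : Set (P ⊗ Q).left).Nonempty) :
    ∃ j j' z, ((a j) ⊗ₘ (b j')).left z ∈ U := by
  have : UniversallyOpen (fst P Q).left :=
    MorphismProperty.pullback_fst (P := @UniversallyOpen) P.hom Q.hom inferInstance
  obtain ⟨j, x, hx⟩ := ha ⟨(fst P Q).left '' U, (fst P Q).left.isOpenMap _ U.2⟩ (hU.image _)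
  obtain ⟨u, hu, hux⟩ := hx
  have hsq : IsPullback (a j ▷ Q).left (fst (A j) Q).left (fst P Q).left (a j).left := by
    refine IsPullback.of_right (h₁₂ := (snd P Q).left) (h₂₂ := P.hom) (v₁₃ := Q.hom) ?_ ?_ ?_
    · have e' : (a j ▷ Q).left ≫ (snd P Q).left = (snd (A j) Q).left := by
        rw [← Over.comp_left, whiskerRight_snd]
      rw [e', Over.w (a j)]
      exact (IsPullback.of_hasPullback (A j).hom Q.hom).flip
    · rw [← Over.comp_left, whiskerRight_fst, Over.comp_left]
    · exact (IsPullback.of_hasPullback P.hom Q.hom).flip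
  obtain ⟨v, hv, -⟩ := Scheme.exists_preimage_of_isPullback hsq u x hux
  have : UniversallyOpen (snd (A j) Q).left :=
    MorphismProperty.pullback_snd (P := @UniversallyOpen) (A j).hom Q.hom inferInstance
  let U' : (A j ⊗ Q).left.Opens := (a j ▷ Q).left ⁻¹ᵁ U
  obtain ⟨j', y, hy⟩ := hb ⟨(snd (A j) Q).left '' U', (snd (A j) Q).left.isOpenMap _ U'.2⟩
    ⟨_, v, show (a j ▷ Q).left v ∈ U from hv.symm ▸ hu, rfl⟩
  obtain ⟨u', hu', hu'y⟩ := hy
  have hsq' : IsPullback (A j ◁ b j').left (snd (A j) (B j')).left (snd (A j) Q).left (b j').left := by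
    refine IsPullback.of_right (h₁₂ := (fst (A j) Q).left) (h₂₂ := Q.hom) (v₁₃ := (A j).hom) ?_ ?_ ?_
    · have e : (A j ◁ b j').left ≫ (fst (A j) Q).left = (fst (A j) (B j')).left := by
        rw [← Over.comp_left, whiskerLeft_fst]
      rw [e, Over.w (b j')]
      exact IsPullback.of_hasPullback (A j).hom _
    · rw [← Over.comp_left, whiskerLeft_snd, Over.comp_left]
    · exact IsPullback.of_hasPullback (A j).hom Q.hom
  obtain ⟨z, hz, -⟩ := Scheme.exists_preimage_of_isPullback hsq' u' y hu'y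
  refine ⟨j, j', z, ?_⟩
  have e : a j ⊗ₘ b j' = (A j ◁ b j') ≫ (a j ▷ Q) := by
    apply CartesianMonoidalCategory.hom_ext <;> simp
  rw [e, Over.comp_left, Scheme.Hom.comp_apply, hz]
  exact hu'

variable [GrpObj G] (f : X ⟶ G)

/-- The points below some word. -/
def wordSet : Set G.left := ⋃ w : Word, Set.range (w.hom f).left

theorem range_hom_subset (w : Word) : Set.range (w.hom f).left ⊆ wordSet f := Set.subset_iUnion_of_subset w subset_rfl

omit [GrpObj G] in
theorem exists_lift_of_reduced {T Γ : Over (Spec (CommRingCat.of k))} [IsReduced T.left] (g : T ⟶ G) (i : Γ ⟶ G)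
    [IsClosedImmersion i.left] (h : Set.range g.left ⊆ Set.range i.left) : ∃ g' : T ⟶ Γ, g' ≫ i = g := by
  obtain ⟨l, hl⟩ := H23.RedSub.exists_lift_closed g.left i.left h
  exact ⟨Over.homMk l (by rw [← Over.w i, reassoc_of% hl, Over.w g]), Over.OverMorphism.ext hl⟩

/-- Words stay in any subgroup containing the image. -/
theorem exists_hom_factor {Γ : Over (Spec (CommRingCat.of k))} [GrpObj Γ] (i : Γ ⟶ G) [IsMonHom i]
    {f' : X ⟶ Γ} (hf : f' ≫ i = f) : ∀ w : Word, ∃ l, l ≫ i = w.hom f
  | .one => ⟨η[Γ], IsMonHom.one_hom i⟩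
  | .gen => ⟨f', hf⟩
  | .inv a => by
      obtain ⟨l, hl⟩ := exists_hom_factor i hf a
      refine ⟨l⁻¹, ?_⟩
      rw [GrpObj.inv_comp, hl]
      rfl
  | .mul a b => by
      obtain ⟨l, hl⟩ := exists_hom_factor i hf a
      obtain ⟨l', hl'⟩ := exists_hom_factor i hf b
      refine ⟨(fst _ _ ≫ l) * (snd _ _ ≫ l'), ?_⟩
      rw [MonObj.mul_comp, Category.assoc, Category.assoc, hl, hl']
      rfl

/-- The smallest closed subgroup through which a geometrically reduced scheme factors. -/
theorem exists_generated [GeometricallyReduced X.hom] :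
    ∃ (Γ : Over (Spec (CommRingCat.of k))) (_ : GrpObj Γ) (i : Γ ⟶ G), IsMonHom i ∧ IsClosedImmersion i.left ∧
      (∃ f' : X ⟶ Γ, f' ≫ i = f) ∧ GeometricallyReduced Γ.hom ∧ IsReduced Γ.left ∧
      Set.range i.left = closure (wordSet f) ∧
      ∀ (Γ' : Over (Spec (CommRingCat.of k))) (_ : GrpObj Γ') (i' : Γ' ⟶ G), IsMonHom i' → IsClosedImmersion i'.left →
        (∃ f'' : X ⟶ Γ', f'' ≫ i' = f) → ∃ j : Γ ⟶ Γ', j ≫ i' = i := by
  let C : TopologicalSpace.Closeds G.left := ⟨closure (wordSet f), isClosed_closure⟩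
  let ι₀ := (Scheme.IdealSheafData.vanishingIdeal C).subschemeι
  let P : Over (Spec (CommRingCat.of k)) := Over.mk (ι₀ ≫ G.hom)
  let i : P ⟶ G := Over.homMk ι₀ rfl
  have : IsReduced P.left := H23.RedSub.isReduced_vanishingIdeal C
  have : IsClosedImmersion i.left := inferInstanceAs (IsClosedImmersion ι₀)
  have hr : Set.range i.left = closure (wordSet f) := H23.RedSub.range_vanishingIdeal C
  have hlift : ∀ (T : Over (Spec (CommRingCat.of k))) [IsReduced T.left] (g : T ⟶ G),
      Set.range g.left ⊆ closure (wordSet f) → ∃ g' : T ⟶ P, g' ≫ i = g :=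
    fun T _ g hg => exists_lift_of_reduced g i (hr ▸ hg)
  have hl : ∀ w : Word, ∃ l : w.obj X ⟶ P, l ≫ i = w.hom f := fun w =>
    have := isReduced_obj (X := X) w
    hlift _ _ ((range_hom_subset f w).trans subset_closure)
  choose l hl using hl
  have hd : ∀ U : P.left.Opens, (U : Set P.left).Nonempty → ∃ w x, (l w).left x ∈ U := by
    rintro U ⟨p, hp⟩
    obtain ⟨V, hV, hVU⟩ := i.left.isClosedEmbedding.isInducing.isOpen_iff.mp U.2
    have hpV : i.left p ∈ V := hVU.symm.subset hp
    obtain ⟨_, hvV, hv⟩ := mem_closure_iff.mp (hr.subset ⟨p, rfl⟩) V hV hpV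
    obtain ⟨w, x, rfl⟩ := Set.mem_iUnion.mp hv
    refine ⟨w, x, hVU.subset ?_⟩
    show i.left ((l w).left x) ∈ V
    rw [← Scheme.Hom.comp_apply, ← Over.comp_left, hl]
    exact hvV
  have hgr : GeometricallyReduced P.hom := geometricallyReduced_of_dense (fun w => (Word.obj X w).left)
    (fun w => (l w).left) hd fun w => by
      rw [Over.w (l w)]
      exact geometricallyReduced_obj w
  have : IsReduced (P ⊗ P).left := isReduced_pullback_of_geometricallyReduced P.hom
  have : Mono i := (Over.forget _).mono_of_mono_map (inferInstanceAs (Mono i.left))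
  have : IsReduced (𝟙_ (Over (Spec (CommRingCat.of k)))).left := inferInstanceAs (IsReduced (Spec (CommRingCat.of k)))
  obtain ⟨e, he⟩ := hlift _ η[G] ((range_hom_subset f .one).trans subset_closure)
  obtain ⟨m, hm⟩ := hlift _ ((fst P P ≫ i) * (snd P P ≫ i)) (by
    set q := (fst P P ≫ i) * (snd P P ≫ i) with hq
    rintro _ ⟨z, rfl⟩
    by_contra hz
    obtain ⟨w, w', y, hy⟩ := exists_mem_tensor l l hd hd
      ⟨q.left ⁻¹' (closure (wordSet f))ᶜ, isClosed_closure.isOpen_compl.preimage q.left.continuous⟩ ⟨z, hz⟩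
    refine hy ?_
    rw [← Scheme.Hom.comp_apply, ← Over.comp_left]
    have e : (l w ⊗ₘ l w') ≫ q = (Word.mul w w').hom f := by
      show _ = (fst _ _ ≫ w.hom f) * (snd _ _ ≫ w'.hom f)
      rw [hq, MonObj.comp_mul, ← hl w, ← hl w']
      simp
    rw [e]
    exact subset_closure (range_hom_subset f (.mul w w') ⟨y, rfl⟩))
  obtain ⟨v, hv⟩ := hlift _ i⁻¹ (by
    rintro _ ⟨z, rfl⟩
    by_contra hz
    obtain ⟨w, y, hy⟩ := hd ⟨(i⁻¹).left ⁻¹' (closure (wordSet f))ᶜ,
      isClosed_closure.isOpen_compl.preimage (i⁻¹).left.continuous⟩ ⟨z, hz⟩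
    refine hy ?_
    rw [← Scheme.Hom.comp_apply, ← Over.comp_left]
    have e : l w ≫ i⁻¹ = (Word.inv w).hom f := by
      rw [GrpObj.comp_inv, hl]
      rfl
    rw [e]
    exact subset_closure (range_hom_subset f (.inv w) ⟨y, rfl⟩))
  obtain ⟨str, hi⟩ := GrpSchLib.exists_grpObj_of_mono i e he m hm v hv
  refine ⟨P, str, i, hi, inferInstance, ⟨l .gen, hl .gen⟩, hgr, inferInstance, hr, ?_⟩
  rintro Γ' _ i' hi' hi'c ⟨f'', hf''⟩
  refine exists_lift_of_reduced i i' (hr ▸ closure_minimal ?_ i'.left.isClosedEmbedding.isClosed_range)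
  refine Set.iUnion_subset fun w => ?_
  obtain ⟨l', hl'⟩ := exists_hom_factor f i' hf'' w
  rintro _ ⟨x, rfl⟩
  rw [← hl']
  exact ⟨l'.left x, rfl⟩

end Groth.Agent.SGAGen20
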