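import Groth.Agent.SGAGen20.Conn
import Groth.Agent.SGAHom20.Dominant
import Groth.Prelude.Def_Red

/-!
# Generated subgroups after an arbitrary base change
-/

set_option backward.isDefEq.respectTransparency false
set_option backward.isDefEq.respectTransparency.types false

universe u

open CategoryTheory AlgebraicGeometry Limits TensorProduct

noncomputable section

namespace Groth.Agent.SGAGen20

section Scheme

variable {k : Type u} [Field k] {P Y : Scheme.{u}} {f : P ⟶ Spec (CommRingCat.of k)} {g : Y ⟶ Spec (CommRingCat.of k)}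

/-- Charts of a product over a field. -/
theorem exists_chart' (w : ↥(pullback f g)) :
    ∃ (A B : Type u) (_ : CommRing A) (_ : CommRing B) (_ : Algebra k A) (_ : Algebra k B)
      (jA : Spec (CommRingCat.of A) ⟶ P) (jB : Spec (CommRingCat.of B) ⟶ Y)
      (v : Spec (CommRingCat.of (A ⊗[k] B)) ⟶ pullback f g),
      IsOpenImmersion jA ∧ IsOpenImmersion jB ∧ IsOpenImmersion v ∧ w ∈ Set.range v ∧
      jA ≫ f = Spec.map (CommRingCat.ofHom (algebraMap k A)) ∧ jB ≫ g = Spec.map (CommRingCat.ofHom (algebraMap k B)) ∧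
      v ≫ pullback.fst f g = Spec.map (CommRingCat.ofHom (Algebra.TensorProduct.includeLeftRingHom (R := k) (A := A) (B := B))) ≫ jA ∧
      v ≫ pullback.snd f g = Spec.map (CommRingCat.ofHom (Algebra.TensorProduct.includeRight (R := k) (A := A) (B := B)).toRingHom) ≫ jB := by
  obtain ⟨a, ha⟩ := P.affineOpenCover.covers (pullback.fst f g w)
  obtain ⟨b, hb⟩ := Y.affineOpenCover.covers (pullback.snd f g w)
  let A := P.affineOpenCover.X (P.affineOpenCover.idx (pullback.fst f g w))
  let B := Y.affineOpenCover.X (Y.affineOpenCover.idx (pullback.snd f g w))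
  let jA : Spec A ⟶ P := P.affineOpenCover.f (P.affineOpenCover.idx (pullback.fst f g w))
  let jB : Spec B ⟶ Y := Y.affineOpenCover.f (Y.affineOpenCover.idx (pullback.snd f g w))
  have hjA : IsOpenImmersion jA := P.affineOpenCover.map_prop _
  have hjB : IsOpenImmersion jB := Y.affineOpenCover.map_prop _
  obtain ⟨sA, hsA⟩ := Spec.map_surjective (jA ≫ f)
  obtain ⟨sB, hsB⟩ := Spec.map_surjective (jB ≫ g)
  let : Algebra k A := sA.hom.toAlgebra
  let : Algebra k B := sB.hom.toAlgebra
  have hA : jA ≫ f = Spec.map (CommRingCat.ofHom (algebraMap k A)) := hsA.symm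
  have hB : jB ≫ g = Spec.map (CommRingCat.ofHom (algebraMap k B)) := hsB.symm
  let m := pullback.map (Spec.map (CommRingCat.ofHom (algebraMap k A))) (Spec.map (CommRingCat.ofHom (algebraMap k B))) f g
    jA jB (𝟙 _) (by rw [Category.comp_id]; exact hA.symm) (by rw [Category.comp_id]; exact hB.symm)
  have : IsOpenImmersion m := inferInstance
  refine ⟨A, B, inferInstance, inferInstance, inferInstance, inferInstance, jA, jB,
    (pullbackSpecIso k A B).inv ≫ m, hjA, hjB, inferInstance, ?_, hA, hB, ?_, ?_⟩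
  · have hm : w ∈ Set.range m := by
      rw [Scheme.Pullback.range_map]
      exact ⟨⟨a, ha⟩, ⟨b, hb⟩⟩
    obtain ⟨z, hz⟩ := hm
    refine ⟨(pullbackSpecIso k A B).hom z, ?_⟩
    rw [← Scheme.Hom.comp_apply, Iso.hom_inv_id_assoc, hz]
  · rw [Category.assoc, show m ≫ pullback.fst f g = pullback.fst _ _ ≫ jA from pullback.lift_fst _ _ _, ← Category.assoc,
      pullbackSpecIso_inv_fst]
  · rw [Category.assoc, show m ≫ pullback.snd f g = pullback.snd _ _ ≫ jB from pullback.lift_snd _ _ _, ← Category.assoc,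
      pullbackSpecIso_inv_snd]
    rfl

variable [IsReduced P]

/-- A dense family in a reduced scheme over a field stays schematically dense after any base change. -/
theorem isIso_of_dense {J : Type*} (W : J → Scheme.{u}) (w : ∀ j, W j ⟶ P)
    (hd : ∀ U : P.Opens, (U : Set P).Nonempty → ∃ j x, w j x ∈ U)
    {Z : Scheme.{u}} (q : Z ⟶ pullback f g) [IsClosedImmersion q]
    (hl : ∀ j, ∃ l, l ≫ q = pullback.map (w j ≫ f) g f g (w j) (𝟙 _) (𝟙 _) (by simp) (by simp)) : IsIso q := by
  choose A B iA iB aA aB jA jB v hjA hjB hv hmem hA hB hv1 hv2 using fun p => exists_chart' (f := f) (g := g) p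
  let 𝒰 : (pullback f g).OpenCover := Scheme.Cover.mkOfCovers (P := @IsOpenImmersion) ↥(pullback f g)
    (fun p => Spec (CommRingCat.of (A p ⊗[k] B p))) v (fun p => ⟨p, hmem p⟩) hv
  refine (IsZariskiLocalAtTarget.iff_of_openCover (P := MorphismProperty.isomorphisms Scheme.{u}) 𝒰).mpr fun p => ?_
  show IsIso (pullback.snd q (v p))
  have : IsClosedImmersion (pullback.snd q (v p)) := inferInstance
  obtain ⟨I, e, he⟩ := IsClosedImmersion.Spec_iff.mp this
  suffices hI : I = ⊥ by
    have hb : Function.Bijective (Ideal.Quotient.mk I) :=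
      ⟨by rw [RingHom.injective_iff_ker_eq_bot, Ideal.mk_ker, hI], Ideal.Quotient.mk_surjective⟩
    have : IsIso (CommRingCat.ofHom (Ideal.Quotient.mk I)) :=
      (ConcreteCategory.isIso_iff_bijective _).mpr hb
    rw [he]
    infer_instance
  refine eq_bot_iff.mpr fun z hz => Ideal.mem_bot.mpr ?_
  have : IsReduced (Spec (CommRingCat.of (A p))) := isReduced_of_isOpenImmersion (jA p)
  have : _root_.IsReduced (A p) := (affine_isReduced_iff (CommRingCat.of (A p))).mp inferInstance
  let J' := {t : Σ (j : J) (C : CommRingCat.{u}), ((Spec C ⟶ W j) × (CommRingCat.of (A p) ⟶ C)) //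
    IsOpenImmersion t.2.2.1 ∧ t.2.2.1 ≫ w t.1 = Spec.map t.2.2.2 ≫ jA p}
  let alg : ∀ t : J', Algebra k t.1.2.1 := fun t =>
    (t.1.2.2.2.hom.comp (algebraMap k (A p))).toAlgebra
  let ψ : ∀ t : J', A p →ₐ[k] t.1.2.1 := fun t => ⟨t.1.2.2.2.hom, fun _ => rfl⟩
  refine eq_zero_of_forall_map ψ (fun a ha => ?_) z fun t => ?_
  · by_contra hne
    obtain ⟨x, hx⟩ : ((PrimeSpectrum.basicOpen a : TopologicalSpace.Opens (PrimeSpectrum (A p))) :
        Set (PrimeSpectrum (A p))).Nonempty := by
      rw [Set.nonempty_iff_ne_empty]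
      intro he
      exact hne (IsReduced.eq_zero a (PrimeSpectrum.basicOpen_eq_bot_iff a |>.mp (TopologicalSpace.Opens.ext he)))
    obtain ⟨j, q', y, hy, hyq⟩ := hd (jA p ''ᵁ (PrimeSpectrum.basicOpen a)) ⟨jA p x, x, hx, rfl⟩
    obtain ⟨U, hU, hqU, hUle⟩ := exists_isAffineOpen_mem_and_subset
      (U := (w j) ⁻¹ᵁ (jA p ''ᵁ (PrimeSpectrum.basicOpen a))) (x := q') ⟨y, hy, hyq⟩
    have hr : Set.range (hU.fromSpec ≫ w j) ⊆ Set.range (jA p) := by
      rintro _ ⟨s, rfl⟩
      obtain ⟨y', -, hy'⟩ := hUle (hU.range_fromSpec.subset ⟨s, rfl⟩)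
      exact ⟨y', hy'⟩
    obtain ⟨φ, hφ⟩ := Spec.map_surjective (IsOpenImmersion.lift (jA p) (hU.fromSpec ≫ w j) hr)
    have hfac : hU.fromSpec ≫ w j = Spec.map φ ≫ jA p := by rw [hφ, IsOpenImmersion.lift_fac]
    have h0 : φ.hom a = 0 := ha ⟨⟨j, Γ(W j, U), hU.fromSpec, φ⟩, inferInstance, hfac⟩
    obtain ⟨s, hs⟩ : q' ∈ Set.range hU.fromSpec := hU.range_fromSpec.symm ▸ hqU
    have hys : Spec.map φ s = y := by
      apply (jA p).isOpenEmbedding.injective
      rw [← Scheme.Hom.comp_apply, ← hfac, Scheme.Hom.comp_apply, hs]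
      exact hyq.symm
    rw [← hys] at hy
    exact hy (show φ.hom a ∈ s.asIdeal by rw [h0]; exact Ideal.zero_mem _)
  · obtain ⟨⟨j, C, u, φ⟩, hu, hfac⟩ := t
    let : Algebra k C := (φ.hom.comp (algebraMap k (A p))).toAlgebra
    let ψ' : A p →ₐ[k] C := ⟨φ.hom, fun _ => rfl⟩
    let Ψ := (Algebra.TensorProduct.map ψ' (AlgHom.id k (B p))).toRingHom
    have e1 : u ≫ w j ≫ f = Spec.map (CommRingCat.ofHom (algebraMap k C)) := by
      rw [← Category.assoc, hfac, Category.assoc, hA, ← Spec.map_comp]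
      rfl
    obtain ⟨l, hl⟩ := hl j
    let n : Spec (CommRingCat.of (C ⊗[k] B p)) ⟶ pullback (w j ≫ f) g := pullback.lift
      (Spec.map (CommRingCat.ofHom (Algebra.TensorProduct.includeLeftRingHom (R := k) (A := C) (B := B p))) ≫ u)
      (Spec.map (CommRingCat.ofHom (Algebra.TensorProduct.includeRight (R := k) (A := C) (B := B p)).toRingHom) ≫ jB p)
      (by
        rw [Category.assoc, Category.assoc, e1, hB, ← Spec.map_comp, ← Spec.map_comp, ← CommRingCat.ofHom_comp,
          ← CommRingCat.ofHom_comp]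
        congr 2
        ext c
        simp)
    have hn : Spec.map (CommRingCat.ofHom Ψ) ≫ v p = (n ≫ l) ≫ q := by
      rw [Category.assoc, hl]
      apply pullback.hom_ext
      · rw [Category.assoc, hv1, Category.assoc, pullback.map, pullback.lift_fst, pullback.lift_fst_assoc,
          ← Category.assoc, ← Spec.map_comp, ← CommRingCat.ofHom_comp, Category.assoc, hfac, ← Category.assoc,
          ← Spec.map_comp]
        congr 2
      · rw [Category.assoc, hv2, Category.assoc, pullback.map, pullback.lift_snd, Category.comp_id, pullback.lift_snd,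
          ← Category.assoc, ← Spec.map_comp, ← CommRingCat.ofHom_comp]
        congr 2
        ext c
        simp [Ψ, ψ']
    let m := pullback.lift (n ≫ l) (Spec.map (CommRingCat.ofHom Ψ)) hn.symm
    obtain ⟨χ, hχ⟩ := Spec.map_surjective (m ≫ e.hom)
    have h2 : CommRingCat.ofHom (Ideal.Quotient.mk I) ≫ χ = CommRingCat.ofHom Ψ := by
      apply Spec.map_injective
      rw [Spec.map_comp, hχ, Category.assoc, ← he]
      exact pullback.lift_snd _ _ _
    have h3 := congrArg (fun r => r.hom z) h2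
    simp only [CommRingCat.hom_comp, RingHom.comp_apply, CommRingCat.hom_ofHom] at h3
    rw [Ideal.Quotient.eq_zero_iff_mem.mpr hz, map_zero] at h3
    exact h3.symm

end Scheme

section Group

open MonoidalCategory CartesianMonoidalCategory MonObj GrpObj
open scoped CategoryTheory.Obj

variable {k : Type u} [Field k] {G X Γ : Over (Spec (CommRingCat.of k))} [GrpObj G] [GrpObj Γ] (f : X ⟶ G)
  {S : Scheme.{u}} (σ : S ⟶ Spec (CommRingCat.of k))

theorem isPullback_bcOver {A B : Over (Spec (CommRingCat.of k))} (g : A ⟶ B) :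
    IsPullback (pullback.fst A.hom σ) ((Over.pullback σ).map g).left g.left (pullback.fst B.hom σ) := by
  refine (IsPullback.of_right ?_ ?_ (IsPullback.of_hasPullback B.hom σ).flip).flip
  · have e : ((Over.pullback σ).map g).left ≫ pullback.snd B.hom σ = pullback.snd A.hom σ :=
      Over.w ((Over.pullback σ).map g)
    rw [e, Over.w g]
    exact (IsPullback.of_hasPullback A.hom σ).flip
  · exact pullback.lift_fst _ _ _

variable {Γ' : Over S} [GrpObj Γ'] (i' : Γ' ⟶ (Over.pullback σ).obj G) [IsMonHom i']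

theorem exists_word_factor {f'' : (Over.pullback σ).obj X ⟶ Γ'} (hf : f'' ≫ i' = (Over.pullback σ).map f) :
    ∀ w : Word, ∃ l, l ≫ i' = (Over.pullback σ).map (w.hom f)
  | .one => ⟨1, by
      rw [MonObj.one_comp, show Word.hom f .one = (1 : 𝟙_ _ ⟶ G) from MonObj.one_eq_one _,
        Functor.map_one]⟩
  | .gen => ⟨f'', hf⟩
  | .inv a => by
      obtain ⟨l, hl⟩ := exists_word_factor hf a
      refine ⟨l⁻¹, ?_⟩
      rw [GrpObj.inv_comp, hl, show Word.hom f (.inv a) = (a.hom f)⁻¹ from rfl, Functor.map_inv']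
  | .mul a b => by
      obtain ⟨l, hl⟩ := exists_word_factor hf a
      obtain ⟨l', hl'⟩ := exists_word_factor hf b
      refine ⟨((Over.pullback σ).map (fst (a.obj X) (b.obj X)) ≫ l) *
        ((Over.pullback σ).map (snd (a.obj X) (b.obj X)) ≫ l'), ?_⟩
      rw [MonObj.mul_comp, Category.assoc, Category.assoc, hl, hl',
        show Word.hom f (.mul a b) = (fst _ _ ≫ a.hom f) * (snd _ _ ≫ b.hom f) from rfl, Functor.map_mul,
        Functor.map_comp, Functor.map_comp]

set_option maxHeartbeats 1600000 in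
set_option synthInstance.maxHeartbeats 400000 in
/-- The base change of the generated subgroup is contained in every immersed subgroup containing the base change
of the morphism. -/
theorem exists_factor_bc [GeometricallyReduced X.hom] (i : Γ ⟶ G) [IsMonHom i] [IsClosedImmersion i.left]
    (hred : IsReduced Γ.left) (hr : Set.range i.left = closure (wordSet f))
    {f₀ : X ⟶ Γ} (hf₀ : f₀ ≫ i = f) [IsImmersion i'.left]
    {f'' : (Over.pullback σ).obj X ⟶ Γ'} (hf : f'' ≫ i' = (Over.pullback σ).map f) :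
    ∃ j : (Over.pullback σ).obj Γ ⟶ Γ', j ≫ i' = (Over.pullback σ).map i := by
  let F := Over.pullback σ
  let ΓS := F.obj Γ
  let iS : ΓS ⟶ F.obj G := F.map i
  have hiS : IsMonHom iS := inferInstanceAs (IsMonHom ((Over.pullback σ).map i))
  have : Mono i := (Over.forget _).mono_of_mono_map (inferInstanceAs (Mono i.left))
  have hlw : ∀ w : Word, ∃ l : w.obj X ⟶ Γ, l ≫ i = w.hom f := fun w => exists_hom_factor f i hf₀ w
  choose lw hlw using hlw
  have hd : ∀ U : Γ.left.Opens, (U : Set Γ.left).Nonempty → ∃ w x, (lw w).left x ∈ U := by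
    rintro U ⟨p, hp⟩
    obtain ⟨V, hV, hVU⟩ := i.left.isClosedEmbedding.isInducing.isOpen_iff.mp U.2
    obtain ⟨_, hvV, hv⟩ := mem_closure_iff.mp (hr.subset ⟨p, rfl⟩) V hV (hVU.symm.subset hp)
    obtain ⟨w, x, rfl⟩ := Set.mem_iUnion.mp hv
    refine ⟨w, x, hVU.subset ?_⟩
    show i.left ((lw w).left x) ∈ V
    rw [← Scheme.Hom.comp_apply, ← Over.comp_left, hlw]
    exact hvV
  choose lS hlS using exists_word_factor f σ i' hf
  have hsurj : ∀ y : ΓS.left, iS.left y ∈ Set.range i'.left := fun y => by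
    let Lo : Over S := Over.mk (ΓS.left.fromSpecResidueField y ≫ ΓS.hom)
    let p : Lo ⟶ ΓS := Over.homMk (ΓS.left.fromSpecResidueField y) rfl
    let A := ΓS ⊗ Lo
    let R : Set A.left := (fst ΓS Lo ≫ iS).left ⁻¹' Set.range i'.left
    let π : A.left ⟶ Γ.left := (fst ΓS Lo).left ≫ pullback.fst Γ.hom σ
    have : UniversallyOpen π := by
      have sq : IsPullback π (snd ΓS Lo).left Γ.hom (Lo.hom ≫ σ) :=
        (IsPullback.of_hasPullback ΓS.hom Lo.hom).flip.paste_vert (IsPullback.of_hasPullback Γ.hom σ).flip |>.flip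
      have : UniversallyOpen (Lo.hom ≫ σ) := by
        obtain ⟨φ, hφ⟩ := Spec.map_surjective (R := CommRingCat.of k) (S := ΓS.left.residueField y) (Lo.hom ≫ σ)
        show UniversallyOpen (ΓS.left.fromSpecResidueField y ≫ ΓS.hom ≫ σ)
        infer_instance
      exact MorphismProperty.of_isPullback (P := @UniversallyOpen) sq.flip this
    have hdense : Dense R := by
      rw [dense_iff_inter_open]
      rintro U hU ⟨a₀, ha₀⟩
      obtain ⟨w, x, a, haU, hax⟩ := hd ⟨π '' U, π.isOpenMap _ hU⟩ ⟨_, a₀, ha₀, rfl⟩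
      refine ⟨a, haU, ?_⟩
      obtain ⟨v, -, hv⟩ := Scheme.exists_preimage_of_isPullback (isPullback_bcOver σ (lw w)) x
        ((fst ΓS Lo).left a) hax.symm
      refine ⟨(lS w).left v, ?_⟩
      show i'.left ((lS w).left v) = (fst ΓS Lo ≫ iS).left a
      rw [← Scheme.Hom.comp_apply, ← Over.comp_left, hlS, ← hlw, Functor.map_comp, Over.comp_left,
        Scheme.Hom.comp_apply]
      erw [hv]
      rfl
    have hopen : IsOpen R := by
      have hlc : IsLocallyClosed R := i'.left.isLocallyClosed_range.preimage (fst ΓS Lo ≫ iS).left.continuous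
      have : coborder R ∩ closure R = R := coborder_inter_closure
      rw [hdense.closure_eq, Set.inter_univ] at this
      rw [← this]
      exact hlc.isOpen_coborder
    let τ : A ≅ A :=
      { hom := lift ((snd ΓS Lo ≫ p) * fst ΓS Lo) (snd ΓS Lo)
        inv := lift ((snd ΓS Lo ≫ p)⁻¹ * fst ΓS Lo) (snd ΓS Lo)
        hom_inv_id := by
          apply CartesianMonoidalCategory.hom_ext
          · simp [MonObj.comp_mul, GrpObj.comp_inv]
            exact (Category.id_comp _).symm
          · simp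
        inv_hom_id := by
          apply CartesianMonoidalCategory.hom_ext
          · simp [MonObj.comp_mul]
            exact (Category.id_comp _).symm
          · simp }
    have : IsIso τ.hom.left := ((Over.forget _).mapIso τ).isIso_hom
    have : Nonempty A.left := ⟨(lift (1 : Lo ⟶ ΓS) (𝟙 Lo)).left (IsLocalRing.closedPoint _)⟩
    have hne : (τ.hom.left ⁻¹' R).Nonempty := (hdense.preimage τ.hom.left.isOpenMap).nonempty
    obtain ⟨a, ha₁, ha₂⟩ := hdense.inter_open_nonempty _ (hopen.preimage τ.hom.left.continuous) hne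
    let M : Over S := Over.mk (A.left.fromSpecResidueField a ≫ A.hom)
    let α : M ⟶ A := Over.homMk (A.left.fromSpecResidueField a) rfl
    have : IsReduced M.left := inferInstanceAs (IsReduced (Spec (A.left.residueField a)))
    have hlift : ∀ h : A ⟶ F.obj G, h.left a ∈ Set.range i'.left → ∃ t : M ⟶ Γ', t ≫ i' = α ≫ h := by
      intro h hh
      obtain ⟨t, ht⟩ := H23.RedSub.exists_lift (A.left.fromSpecResidueField a ≫ h.left) i'.left (by
        rintro _ ⟨z, rfl⟩
        rw [Scheme.Hom.comp_apply, Scheme.fromSpecResidueField_apply]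
        exact hh)
      exact ⟨Over.homMk t (by rw [← Over.w i', reassoc_of% ht, Over.w h]; rfl), Over.OverMorphism.ext ht⟩
    obtain ⟨h₁, hh₁⟩ := hlift (fst ΓS Lo ≫ iS) ha₂
    obtain ⟨h₂, hh₂⟩ := hlift (τ.hom ≫ fst ΓS Lo ≫ iS) (by
      rw [Over.comp_left, Scheme.Hom.comp_apply]
      exact ha₁)
    have e : (h₂ * h₁⁻¹) ≫ i' = α ≫ snd ΓS Lo ≫ p ≫ iS := by
      rw [MonObj.mul_comp, GrpObj.inv_comp, hh₁, hh₂]
      simp only [τ, lift_fst_assoc, MonObj.mul_comp, MonObj.comp_mul, mul_inv_cancel_right, Category.assoc]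
    refine ⟨(h₂ * h₁⁻¹).left (IsLocalRing.closedPoint _), ?_⟩
    rw [← Scheme.Hom.comp_apply, ← Over.comp_left, e]
    simp only [Over.comp_left, Scheme.Hom.comp_apply]
    exact congrArg iS.left (ΓS.left.fromSpecResidueField_apply y _)
  let q := pullback.fst iS.left i'.left
  have : Surjective q := ⟨fun y => by
    have : y ∈ Set.range q := by
      rw [Scheme.Pullback.range_fst]
      exact hsurj y
    exact this⟩
  have : IsClosedImmersion q := IsClosedImmersion.of_isPreimmersion q (by
    rw [q.surjective.range_eq]; exact isClosed_univ)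
  have : IsIso q := by
    refine isIso_of_dense (f := Γ.hom) (g := σ) (fun w => (Word.obj X w).left) (fun w => (lw w).left) hd q fun w => ?_
    have hw : (lw w).left ≫ Γ.hom = (w.obj X).hom := Over.w (lw w)
    let b : pullback ((lw w).left ≫ Γ.hom) σ ⟶ pullback (w.obj X).hom σ :=
      pullback.map _ _ _ _ (𝟙 _) (𝟙 _) (𝟙 _) (by simp [hw]) (by simp)
    refine ⟨b ≫ pullback.lift ((Over.pullback σ).map (lw w)).left (lS w).left (by
      rw [← Over.comp_left, ← Over.comp_left, hlS, ← hlw, Functor.map_comp]), ?_⟩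
    rw [Category.assoc]
    erw [pullback.lift_fst]
    apply pullback.hom_ext <;> simp [b]
  refine ⟨Over.homMk (inv q ≫ pullback.snd iS.left i'.left) ?_, ?_⟩
  · rw [← Over.w i', Category.assoc, ← pullback.condition_assoc, IsIso.inv_hom_id_assoc]
    exact Over.w iS
  · apply Over.OverMorphism.ext
    show (inv q ≫ pullback.snd iS.left i'.left) ≫ i'.left = iS.left
    rw [Category.assoc, ← pullback.condition, IsIso.inv_hom_id_assoc]

end Group

end Groth.Agent.SGAGen20
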