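import Groth.Agent.SGAGen20.Conn
import Groth.Agent.SGAHom20.Dominant
import Groth.Agent.GrpSchLib.SmoothReduced

/-!
# The subgroup generated by two subgroups, one normalising the other
-/

set_option backward.isDefEq.respectTransparency false
set_option backward.isDefEq.respectTransparency.types false

universe u

open CategoryTheory AlgebraicGeometry MonoidalCategory CartesianMonoidalCategory MonObj GrpObj
open scoped CategoryTheory.Obj

noncomputable section

namespace Groth.Agent.SGAGen20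

variable {k : Type u} [Field k] {G A B : Over (Spec (CommRingCat.of k))} [GrpObj G] [GrpObj A] [GrpObj B]
  (a : A ⟶ G) [IsMonHom a] (b : B ⟶ G) [IsMonHom b]

omit [GrpObj A] [GrpObj B] [IsMonHom a] [IsMonHom b] in
theorem lift_mul_eq {T : Over (Spec (CommRingCat.of k))} (x : T ⟶ A) (y : T ⟶ B) :
    lift x y ≫ (a ⊗ₘ b) ≫ μ[G] = (x ≫ a) * (y ≫ b) := by
  rw [Hom.mul_def, ← Category.assoc]
  congr 1
  apply CartesianMonoidalCategory.hom_ext <;> simp

variable (hN : ∀ (T : Over (Spec (CommRingCat.of k))) (y : T ⟶ B) (x : T ⟶ A),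
    ∃ x' : T ⟶ A, (y ≫ b) * (x ≫ a) * (y ≫ b)⁻¹ = x' ≫ a)

include hN in
theorem exists_lift_word : ∀ w : Word,
    ∃ l : w.obj (A ⊗ B) ⟶ A ⊗ B, l ≫ (a ⊗ₘ b) ≫ μ[G] = w.hom ((a ⊗ₘ b) ≫ μ[G])
  | .one => ⟨lift 1 1, by
      rw [lift_mul_eq, MonObj.one_comp, MonObj.one_comp, _root_.mul_one]
      exact (MonObj.one_eq_one _).symm⟩
  | .gen => ⟨𝟙 _, Category.id_comp _⟩
  | .inv w => by
      obtain ⟨l, hl⟩ := exists_lift_word w
      obtain ⟨x', hx'⟩ := hN _ ((l ≫ snd A B)⁻¹) ((l ≫ fst A B)⁻¹)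
      refine ⟨lift x' (l ≫ snd A B)⁻¹, ?_⟩
      show _ = (w.hom ((a ⊗ₘ b) ≫ μ[G]))⁻¹
      rw [lift_mul_eq, ← hl, show l = lift (l ≫ fst A B) (l ≫ snd A B) by simp, lift_mul_eq, ← hx',
        GrpObj.inv_comp, GrpObj.inv_comp]
      simp [_root_.mul_assoc, GrpObj.inv_comp]
  | .mul w w' => by
      obtain ⟨l, hl⟩ := exists_lift_word w
      obtain ⟨l', hl'⟩ := exists_lift_word w'
      let m := fst (w.obj (A ⊗ B)) (w'.obj (A ⊗ B)) ≫ l
      let m' := snd (w.obj (A ⊗ B)) (w'.obj (A ⊗ B)) ≫ l'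
      obtain ⟨x', hx'⟩ := hN _ (m ≫ snd A B) (m' ≫ fst A B)
      refine ⟨lift ((m ≫ fst A B) * x') ((m ≫ snd A B) * (m' ≫ snd A B)), ?_⟩
      show _ = (fst _ _ ≫ w.hom _) * (snd _ _ ≫ w'.hom _)
      rw [lift_mul_eq, ← hl, ← hl', ← Category.assoc (fst (w.obj (A ⊗ B)) _) l,
        ← Category.assoc (snd (w.obj (A ⊗ B)) _) l', show fst _ _ ≫ l = lift (m ≫ fst A B) (m ≫ snd A B) by simp only [m, Category.assoc, ← comp_lift, lift_fst_snd, Category.comp_id],
        show snd _ _ ≫ l' = lift (m' ≫ fst A B) (m' ≫ snd A B) by simp only [m', Category.assoc, ← comp_lift, lift_fst_snd, Category.comp_id], lift_mul_eq, lift_mul_eq,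
        MonObj.mul_comp, MonObj.mul_comp, ← hx']
      simp [_root_.mul_assoc]

include hN in
/-- The subgroup generated by `A` and a subgroup `B` normalising it has underlying set `A·B`. -/
theorem range_eq_of_normalize [GeometricallyReduced A.hom] [GeometricallyReduced B.hom] [QuasiCompact A.hom]
    [QuasiCompact B.hom] (Γ : Over (Spec (CommRingCat.of k))) [GrpObj Γ] (i : Γ ⟶ G) [IsMonHom i]
    [IsClosedImmersion i.left] (ha : ∃ a' : A ⟶ Γ, a' ≫ i = a) (hb : ∃ b' : B ⟶ Γ, b' ≫ i = b)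
    (hmin : ∀ (Γ' : Over (Spec (CommRingCat.of k))) (_ : GrpObj Γ') (i' : Γ' ⟶ G), IsMonHom i' → IsClosedImmersion i'.left →
        (∃ a'' : A ⟶ Γ', a'' ≫ i' = a) → (∃ b'' : B ⟶ Γ', b'' ≫ i' = b) → ∃ j : Γ ⟶ Γ', j ≫ i' = i) :
    IsReduced Γ.left ∧ Set.range i.left = Set.range ((a ⊗ₘ b) ≫ μ[G]).left := by
  let h := (a ⊗ₘ b) ≫ μ[G]
  have : GeometricallyReduced (A ⊗ B).hom := geometricallyReduced_comp B.hom A.hom
  obtain ⟨a', ha'⟩ := ha
  obtain ⟨b', hb'⟩ := hb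
  have : Mono i := (Over.forget _).mono_of_mono_map (inferInstanceAs (Mono i.left))
  have hh : ((fst A B ≫ a') * (snd A B ≫ b')) ≫ i = h := by
    rw [MonObj.mul_comp, Category.assoc, Category.assoc, ha', hb', ← lift_mul_eq a b, lift_fst_snd, Category.id_comp]
  obtain ⟨-, hred, hr⟩ := smallest_props h Γ i ⟨_, hh⟩ fun Γ' _ i' hi' hi'c ⟨h'', hh''⟩ => by
    refine hmin Γ' _ i' hi' hi'c ⟨lift (𝟙 A) 1 ≫ h'', ?_⟩ ⟨lift 1 (𝟙 B) ≫ h'', ?_⟩
    · rw [Category.assoc, hh'', lift_mul_eq a b, MonObj.one_comp, _root_.mul_one, Category.id_comp]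
    · rw [Category.assoc, hh'', lift_mul_eq a b, MonObj.one_comp, _root_.one_mul, Category.id_comp]
  refine ⟨hred, ?_⟩
  have hword : wordSet h = Set.range h.left := by
    refine subset_antisymm (Set.iUnion_subset fun w => ?_) (range_hom_subset h .gen)
    obtain ⟨l, hl⟩ := exists_lift_word a b hN w
    rw [← hl]
    rintro _ ⟨z, rfl⟩
    exact ⟨l.left z, rfl⟩
  rw [hword] at hr
  let h' := (fst A B ≫ a') * (snd A B ≫ b')
  have hd : DenseRange h'.left := fun z => by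
    rw [i.left.isClosedEmbedding.isInducing.closure_eq_preimage_closure_image, Set.mem_preimage, ← Set.range_comp]
    refine closure_mono ?_ (hr.subset ⟨z, rfl⟩)
    rw [← hh]
    rintro _ ⟨p, rfl⟩
    exact ⟨p, rfl⟩
  have : QuasiCompact h'.left := by
    have : QuasiCompact (A ⊗ B).hom :=
      inferInstanceAs (QuasiCompact (Limits.pullback.fst A.hom B.hom ≫ A.hom))
    have : QuasiCompact (h'.left ≫ Γ.hom) := by rw [Over.w]; infer_instance
    have : IsSeparated Γ.hom :=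
      (isSeparated_iff Γ.hom).mpr ((GrpSchLib.diagonal_iff_unit @IsClosedImmersion).mpr inferInstance)
    exact QuasiCompact.of_comp _ Γ.hom
  obtain ⟨m, hm⟩ := exists_lift_word a b hN (.mul .gen .gen)
  have hm' : m ≫ h' = (fst (A ⊗ B) (A ⊗ B) ≫ h') * (snd (A ⊗ B) (A ⊗ B) ≫ h') := by
    rw [← cancel_mono i, Category.assoc, hh, MonObj.mul_comp, Category.assoc, Category.assoc, hh]
    exact hm
  have := SGAHom20.surjective_of_denseRange_of_mul h' hd m hm'
  show Set.range i.left = Set.range h.left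
  rw [← hh]
  refine subset_antisymm ?_ ?_
  · rintro _ ⟨z, rfl⟩
    obtain ⟨p, rfl⟩ := h'.left.surjective z
    exact ⟨p, rfl⟩
  · rintro _ ⟨p, rfl⟩
    exact ⟨h'.left p, rfl⟩

end Groth.Agent.SGAGen20
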