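import Groth.Agent.SGAGen20.Base
import Groth.Prelude.Def_AlgGrp

/-!
# The commutator subgroup of two normal subgroups is normal
-/

set_option backward.isDefEq.respectTransparency false
set_option backward.isDefEq.respectTransparency.types false

set_option linter.unusedSectionVars false

universe u

open CategoryTheory AlgebraicGeometry MonoidalCategory CartesianMonoidalCategory MonObj GrpObj
open scoped CategoryTheory.Obj

noncomputable section

namespace Groth.Agent.SGAGen20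

variable {k : Type u} [Field k] {G A B : Over (Spec (CommRingCat.of k))} [GrpObj G] [GrpObj A] [GrpObj B]
  (a : A ⟶ G) (b : B ⟶ G)

/-- The commutator morphism of two subgroups. -/
def commHom : A ⊗ B ⟶ G :=
  ((fst A B) ≫ a) * ((snd A B) ≫ b) * ((fst A B) ≫ a)⁻¹ * ((snd A B) ≫ b)⁻¹

omit [GrpObj A] [GrpObj B] in
theorem lift_commHom {T : Over (Spec (CommRingCat.of k))} (x : T ⟶ A) (y : T ⟶ B) :
    lift x y ≫ commHom a b = (x ≫ a) * (y ≫ b) * (x ≫ a)⁻¹ * (y ≫ b)⁻¹ := by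
  simp [commHom, MonObj.comp_mul, GrpObj.comp_inv]

variable [IsMonHom a] [IsMonHom b] (hA : AlgGrp.IsNormalHom a) (hB : AlgGrp.IsNormalHom b)
  {Γ : Over (Spec (CommRingCat.of k))} [GrpObj Γ] (i : Γ ⟶ G) [IsMonHom i]
  {f₀ : A ⊗ B ⟶ Γ} (hf₀ : f₀ ≫ i = commHom a b)

include hA hB hf₀ in
theorem exists_conj_word : ∀ (w : Word) (T : Over (Spec (CommRingCat.of k))) (g : T ⟶ G) (x : T ⟶ w.obj (A ⊗ B)),
    ∃ n' : T ⟶ Γ, g * (x ≫ w.hom (commHom a b)) * g⁻¹ = n' ≫ i
  | .one => fun T g x => ⟨1, by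
      rw [MonObj.one_comp, show Word.hom (commHom a b) .one = (1 : 𝟙_ _ ⟶ G) from MonObj.one_eq_one _,
        MonObj.comp_one, _root_.mul_one, mul_inv_cancel]⟩
  | .gen => fun T g x => by
      obtain ⟨x', hx'⟩ := hA T g (x ≫ fst A B)
      obtain ⟨y', hy'⟩ := hB T g (x ≫ snd A B)
      refine ⟨lift x' y' ≫ f₀, ?_⟩
      have e : x = lift (x ≫ fst A B) (x ≫ snd A B) := by simp
      show g * (x ≫ commHom a b) * g⁻¹ = _
      rw [Category.assoc, hf₀, lift_commHom, ← hx', ← hy', e, lift_commHom, ← e]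
      group
  | .inv w => fun T g x => by
      obtain ⟨n', hn'⟩ := exists_conj_word w T g x
      refine ⟨n'⁻¹, ?_⟩
      rw [GrpObj.inv_comp, ← hn']
      show g * (x ≫ (w.hom (commHom a b))⁻¹) * g⁻¹ = _
      rw [GrpObj.comp_inv]
      group
  | .mul w w' => fun T g x => by
      obtain ⟨n₁, h₁⟩ := exists_conj_word w T g (x ≫ fst _ _)
      obtain ⟨n₂, h₂⟩ := exists_conj_word w' T g (x ≫ snd _ _)
      refine ⟨n₁ * n₂, ?_⟩
      rw [MonObj.mul_comp, ← h₁, ← h₂]
      show g * (x ≫ ((fst _ _ ≫ w.hom _) * (snd _ _ ≫ w'.hom _))) * g⁻¹ = _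
      rw [MonObj.comp_mul, ← Category.assoc, ← Category.assoc]
      group

include hA hB in
theorem isNormal_commutator [GeometricallyReduced A.hom] [GeometricallyReduced B.hom] [IsClosedImmersion i.left]
    (hf : ∃ f' : A ⊗ B ⟶ Γ, f' ≫ i = commHom a b)
    (hmin : ∀ (Γ' : Over (Spec (CommRingCat.of k))) (_ : GrpObj Γ') (i' : Γ' ⟶ G), IsMonHom i' → IsClosedImmersion i'.left →
        (∃ f'' : A ⊗ B ⟶ Γ', f'' ≫ i' = commHom a b) → ∃ j : Γ ⟶ Γ', j ≫ i' = i) :
    AlgGrp.IsNormalHom i := by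
  have : GeometricallyReduced (A ⊗ B).hom := geometricallyReduced_comp B.hom A.hom
  obtain ⟨-, hred, hr⟩ := smallest_props (commHom a b) Γ i hf hmin
  obtain ⟨f', hf'⟩ := hf
  have hlw : ∀ w : Word, ∃ l : w.obj (A ⊗ B) ⟶ Γ, l ≫ i = w.hom (commHom a b) :=
    fun w => exists_hom_factor (commHom a b) i hf' w
  choose lw hlw using hlw
  have hd : ∀ U : Γ.left.Opens, (U : Set Γ.left).Nonempty → ∃ w x, (lw w).left x ∈ U := by
    rintro U ⟨p, hp⟩
    obtain ⟨V, hV, hVU⟩ := i.left.isClosedEmbedding.isInducing.isOpen_iff.mp U.2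
    obtain ⟨_, hvV, hv⟩ := mem_closure_iff.mp (hr.subset ⟨p, rfl⟩) V hV (hVU.symm.subset hp)
    obtain ⟨w, x, rfl⟩ := Set.mem_iUnion.mp hv
    refine ⟨w, x, hVU.subset ?_⟩
    show i.left ((lw w).left x) ∈ V
    rw [← Scheme.Hom.comp_apply, ← Over.comp_left, hlw]
    exact hvV
  let c : Γ ⊗ G ⟶ G := snd Γ G * (fst Γ G ≫ i) * (snd Γ G)⁻¹
  let q : Limits.pullback c.left i.left ⟶ Limits.pullback Γ.hom G.hom := Limits.pullback.fst c.left i.left
  have : IsClosedImmersion q := inferInstanceAs (IsClosedImmersion (Limits.pullback.fst c.left i.left))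
  have : IsIso q := by
    refine isIso_of_dense (f := Γ.hom) (g := G.hom) (fun w => (Word.obj (A ⊗ B) w).left) (fun w => (lw w).left) hd q
      fun w => ?_
    obtain ⟨n', hn'⟩ := exists_conj_word a b hA hB i hf' w _ (snd (w.obj (A ⊗ B)) G) (fst (w.obj (A ⊗ B)) G)
    have e : (lw w ▷ G) ≫ c = n' ≫ i := by
      rw [← hn', ← hlw w]
      simp [c, MonObj.comp_mul, GrpObj.comp_inv]
    have hw : (lw w).left ≫ Γ.hom = (w.obj (A ⊗ B)).hom := Over.w (lw w)
    let t : Limits.pullback ((lw w).left ≫ Γ.hom) G.hom ⟶ (w.obj (A ⊗ B) ⊗ G).left :=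
      Limits.pullback.map _ _ _ _ (𝟙 _) (𝟙 _) (𝟙 _) (by simp [hw]) (by simp)
    refine ⟨t ≫ Limits.pullback.lift (lw w ▷ G).left n'.left (by
      rw [← Over.comp_left, ← Over.comp_left, e]), ?_⟩
    rw [Category.assoc]
    erw [Limits.pullback.lift_fst]
    apply Limits.pullback.hom_ext <;> simp [t]
  intro T g n
  let s : Γ ⊗ G ⟶ Γ := Over.homMk (inv q ≫ Limits.pullback.snd c.left i.left) (by
    rw [← Over.w i, Category.assoc, ← Limits.pullback.condition_assoc, IsIso.inv_hom_id_assoc]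
    exact Over.w c)
  have hs : s ≫ i = c := Over.OverMorphism.ext (by
    show (inv q ≫ Limits.pullback.snd c.left i.left) ≫ i.left = c.left
    rw [Category.assoc, ← Limits.pullback.condition, IsIso.inv_hom_id_assoc])
  refine ⟨lift n g ≫ s, ?_⟩
  rw [Category.assoc, hs]
  simp [c, MonObj.comp_mul, GrpObj.comp_inv]

end Groth.Agent.SGAGen20
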