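import Groth.Agent.SGAGen20.CommBound

/-!
# The commutator subgroup scheme: finiteness, connectedness and rational points
-/

set_option backward.isDefEq.respectTransparency false
set_option backward.isDefEq.respectTransparency.types false
set_option linter.unusedSectionVars false
set_option synthInstance.maxHeartbeats 400000

universe u

open CategoryTheory AlgebraicGeometry MonoidalCategory CartesianMonoidalCategory MonObj GrpObj
open Groth.Agent.GrpSchLib (bc bcProj left_comp_apply)
open Groth.Agent.SGAGen20.KPoints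
open Groth.Agent.SGAGen20.CommBound
open scoped CategoryTheory.Obj Pointwise commutatorElement

noncomputable section

namespace Groth.Agent.SGAGen20.CommFinal

/-- A rational point under a bounded word lies in the subgroup of values at rational points. -/
theorem mem_closure_of_underWord {k : Type u} [Field k] [IsAlgClosed k] {G X : Over (Spec (CommRingCat.of k))}
    [GrpObj G] [LocallyOfFiniteType G.hom] [LocallyOfFiniteType X.hom] {f : X ⟶ G}
    {g : 𝟙_ (Over (Spec (CommRingCat.of k))) ⟶ G} {N : ℕ} (h : UnderWord f N (ev g)) :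
    g ∈ Subgroup.closure (Set.range fun x : 𝟙_ (Over (Spec (CommRingCat.of k))) ⟶ X => x ≫ f) := by
  obtain ⟨T, p, x, ε, hp⟩ := h
  obtain ⟨z, rfl⟩ := exists_points_of_word f p g x ε hp
  refine Subgroup.list_prod_mem _ fun y hy => ?_
  obtain ⟨j, rfl⟩ := List.mem_ofFn.mp hy
  split_ifs
  · exact Subgroup.subset_closure ⟨z j, rfl⟩
  · exact inv_mem (Subgroup.subset_closure ⟨z j, rfl⟩)

variable {k : Type u} [Field k] {G A B Γ : Over (Spec (CommRingCat.of k))} [GrpObj G] [GrpObj A] [GrpObj B]
  [GrpObj Γ] [LocallyOfFiniteType G.hom] (a : A ⟶ G) [IsMonHom a] [IsClosedImmersion a.left]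
  (b : B ⟶ G) [IsMonHom b] [IsClosedImmersion b.left] [GeometricallyReduced A.hom] [GeometricallyReduced B.hom]
  [QuasiCompact B.hom] (i : Γ ⟶ G) [IsMonHom i] [IsClosedImmersion i.left]
  (hcase : (AlgGrp.IsNormalHom a ∧ AlgGrp.IsNormalHom b ∧ QuasiCompact A.hom) ∨ ConnectedSpace A.left)
  {f₀ : A ⊗ B ⟶ Γ} (hf₀ : f₀ ≫ i = commHom a b)
  (hmin : ∀ (Γ' : Over (Spec (CommRingCat.of k))) (_ : GrpObj Γ') (i' : Γ' ⟶ G), IsMonHom i' → IsClosedImmersion i'.left →
    (∃ f'' : A ⊗ B ⟶ Γ', f'' ≫ i' = commHom a b) → ∃ j : Γ ⟶ Γ', j ≫ i' = i)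

include hf₀ hmin in
theorem dense_wordSet : Dense (wordSet f₀) := by
  have : GeometricallyReduced (A ⊗ B).hom := geometricallyReduced_comp B.hom A.hom
  obtain ⟨-, -, hr⟩ := smallest_props (commHom a b) Γ i ⟨f₀, hf₀⟩ hmin
  exact dense_wordSet_factor i hf₀ hr

include hcase hf₀ hmin in
theorem points_eq [IsAlgClosed k] :
    Set.range (fun z : 𝟙_ (Over (Spec (CommRingCat.of k))) ⟶ Γ => z ≫ i) =
      (Subgroup.closure (Set.range fun z : 𝟙_ (Over (Spec (CommRingCat.of k))) ⟶ A ⊗ B => z ≫ commHom a b) : Set _) := by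
  have : LocallyOfFiniteType A.hom := by rw [← Over.w a]; infer_instance
  have : LocallyOfFiniteType B.hom := by rw [← Over.w b]; infer_instance
  have : LocallyOfFiniteType Γ.hom := by rw [← Over.w i]; infer_instance
  have : LocallyOfFiniteType (A ⊗ B).hom := inferInstanceAs (LocallyOfFiniteType (Limits.pullback.fst A.hom B.hom ≫ A.hom))
  have : QuasiCompact A.hom := hcase.elim (fun h => h.2.2) fun hconn => by
    rw [quasiCompact_iff_compactSpace, ← isCompact_univ_iff,
      ← PreconnectedSpace.connectedComponent_eq_univ (η[A].left (IsLocalRing.closedPoint k))]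
    exact GrpSchLib.isCompact_connectedComponent _
  have : QuasiCompact (A ⊗ B).hom := inferInstanceAs (QuasiCompact (Limits.pullback.fst A.hom B.hom ≫ A.hom))
  obtain ⟨n, hn⟩ := exists_closure_bound_comm a b hcase
  obtain ⟨N, hN⟩ := exists_underWord_bound_of f₀ (closure_bound_factor i hf₀ hn) (dense_wordSet a b i hf₀ hmin)
  have hcl : (Subgroup.closure (Set.range fun z : 𝟙_ (Over (Spec (CommRingCat.of k))) ⟶ A ⊗ B => z ≫ f₀)).map (ptsHom i) =
      Subgroup.closure (Set.range fun z : 𝟙_ (Over (Spec (CommRingCat.of k))) ⟶ A ⊗ B => z ≫ commHom a b) := by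
    rw [MonoidHom.map_closure, ← Set.range_comp, ← hf₀]
    congr 2
  refine subset_antisymm ?_ ?_
  · rintro _ ⟨z, rfl⟩
    rw [← hcl]
    exact ⟨z, mem_closure_of_underWord (hN (ev z)), rfl⟩
  · rw [← hcl]
    rintro _ ⟨z, -, rfl⟩
    exact ⟨z, rfl⟩

include hcase hf₀ hmin in
theorem quasiCompact_and_connected :
    QuasiCompact Γ.hom ∧ (ConnectedSpace A.left → ConnectedSpace Γ.left) := by
  have : LocallyOfFiniteType A.hom := by rw [← Over.w a]; infer_instance
  have : LocallyOfFiniteType B.hom := by rw [← Over.w b]; infer_instance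
  have : LocallyOfFiniteType Γ.hom := by rw [← Over.w i]; infer_instance
  have : LocallyOfFiniteType (A ⊗ B).hom := inferInstanceAs (LocallyOfFiniteType (Limits.pullback.fst A.hom B.hom ≫ A.hom))
  have : QuasiCompact A.hom := hcase.elim (fun h => h.2.2) fun hconn => by
    rw [quasiCompact_iff_compactSpace, ← isCompact_univ_iff,
      ← PreconnectedSpace.connectedComponent_eq_univ (η[A].left (IsLocalRing.closedPoint k))]
    exact GrpSchLib.isCompact_connectedComponent _
  have : QuasiCompact (A ⊗ B).hom := inferInstanceAs (QuasiCompact (Limits.pullback.fst A.hom B.hom ≫ A.hom))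
  let φ := algebraMap k (AlgebraicClosure k)
  let F := Over.pullback (Spec.map (CommRingCat.ofHom φ))
  have : LocallyOfFiniteType (bc G φ).hom := inferInstanceAs (LocallyOfFiniteType (Limits.pullback.snd G.hom _))
  have : LocallyOfFiniteType (bc Γ φ).hom := inferInstanceAs (LocallyOfFiniteType (Limits.pullback.snd Γ.hom _))
  have : LocallyOfFiniteType (bc (A ⊗ B) φ).hom :=
    inferInstanceAs (LocallyOfFiniteType (Limits.pullback.snd (A ⊗ B).hom _))
  have : QuasiCompact (bc (A ⊗ B) φ).hom := inferInstanceAs (QuasiCompact (Limits.pullback.snd (A ⊗ B).hom _))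
  have : IsClosedImmersion (F.map i).left := MorphismProperty.overPullbackMap (P := @IsClosedImmersion) _ _ ‹_›
  have hfK : F.map f₀ ≫ F.map i = F.map (commHom a b) := by rw [← Functor.map_comp, hf₀]
  obtain ⟨n, hn⟩ := exists_closure_bound_bc a b φ hcase
  have hn₀ := closure_bound_factor (F.map i) hfK hn
  obtain ⟨N, hN⟩ := exists_underWord_bound_of (F.map f₀) hn₀ (dense_wordSet_bc φ f₀ (dense_wordSet a b i hf₀ hmin))
  have : Surjective (Spec.map (CommRingCat.ofHom φ)) := GrpSchLib.surjective_spec_map_field _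
  refine ⟨?_, fun hconn => ?_⟩
  · rw [quasiCompact_iff_compactSpace, ← isCompact_univ_iff]
    have : QuasiCompact (pow (A ⊗ B) N).hom := quasiCompact_pow N
    have : CompactSpace (pow (A ⊗ B) N).left := (quasiCompact_iff_compactSpace (pow (A ⊗ B) N).hom).mp inferInstance
    have e : (Set.univ : Set Γ.left) = ⋃ ε : Fin N → Bool, Set.range (prodWord f₀ (proj (A ⊗ B) N) ε).left := by
      refine (Set.eq_univ_of_forall fun y => ?_).symm
      obtain ⟨y', rfl⟩ := (bcProj Γ φ).surjective y
      obtain ⟨T, p, x, ε, hp⟩ := underWord_of_bc φ f₀ (hN y')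
      obtain ⟨Φ, hΦ⟩ := exists_tuple N x
      refine Set.mem_iUnion.mpr ⟨ε, Φ.left p, ?_⟩
      rw [← left_comp_apply, comp_prodWord]
      simp only [hΦ]
      exact hp
    rw [e]
    exact isCompact_iUnion fun ε => isCompact_range (prodWord f₀ _ ε).left.continuous
  · have : GeometricallyConnected A.hom := H23.GeomConn.of_point k A.hom η[A].left (Over.w η[A])
    have : ConnectedSpace (bc A φ).left :=
      GeometricallyConnected.geometrically_connectedSpace (f := A.hom) _ _ _ (.of_hasPullback _ _)
    have : LocallyOfFiniteType (bc A φ).hom := inferInstanceAs (LocallyOfFiniteType (Limits.pullback.snd A.hom _))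
    let S := Set.range fun z : 𝟙_ (Over (Spec (CommRingCat.of (AlgebraicClosure k)))) ⟶ bc (A ⊗ B) φ => z ≫ F.map f₀
    have h1 : (1 : 𝟙_ _ ⟶ bc Γ φ) ∈ S ∧ IsPreconnected S := by
      have hSimg : ptsHom (F.map i) '' S =
          Set.range fun z : 𝟙_ (Over (Spec (CommRingCat.of (AlgebraicClosure k)))) ⟶ bc A φ ⊗ bc B φ =>
            z ≫ commHom (F.map a) (F.map b) := by
        rw [← range_bc a b φ, ← Set.range_comp]
        exact congrArg Set.range (funext fun z => (Category.assoc _ _ _).trans (congrArg (z ≫ ·) hfK))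
      have hind : Topology.IsInducing (ptsHom (F.map i)) := by
        refine Topology.IsInducing.of_comp (continuous_comp _) isInducing_ev.continuous ?_
        exact ((F.map i).left.isClosedEmbedding.isInducing.comp isInducing_ev : )
      refine ⟨?_, hind.isPreconnected_image.mp (hSimg ▸ isPreconnected_range (F.map a) (F.map b))⟩
      have h : (1 : 𝟙_ _ ⟶ bc G φ) ∈ ptsHom (F.map i) '' S := by
        rw [hSimg, range_commHom]
        exact ⟨1, one_mem _, 1, one_mem _, commutatorElement_one_left 1⟩
      obtain ⟨s, hs, hs1⟩ := h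
      have : Mono (F.map i) := (Over.forget _).mono_of_mono_map (inferInstanceAs (Mono (F.map i).left))
      rwa [(cancel_mono (F.map i)).mp (hs1.trans (MonObj.one_comp (f := F.map i)).symm : s ≫ F.map i = 1 ≫ F.map i)] at hs
    have hTinv : _root_.IsPreconnected (S ∪ S⁻¹) := by
      refine h1.2.union (1 : 𝟙_ _ ⟶ bc Γ φ) h1.1 (by simpa using h1.1) ?_
      rw [← Set.image_inv_eq_inv]
      exact h1.2.image _ isSemiTop.inv.continuousOn
    have hpre : _root_.IsPreconnected (Set.univ : Set (𝟙_ _ ⟶ bc Γ φ)) := by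
      refine (isSemiTop.isPreconnected_pow (T := S ∪ S⁻¹) (Or.inl h1.1) hTinv n).subset_closure (Set.subset_univ _)
        fun z _ => hn₀ (mem_closure_of_underWord (hN (ev z)))
    have huniv : _root_.IsPreconnected (Set.univ : Set (bc Γ φ).left) := by
      have := (hpre.image _ isInducing_ev.continuous.continuousOn).closure
      rwa [show closure (ev (G := bc Γ φ) '' Set.univ) = Set.univ from Set.eq_univ_of_univ_subset
        (Set.preimage_univ (f := ev (G := bc Γ φ)) ▸ subset_closure_image (G := bc Γ φ) isClosed_univ)] at this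
    have : PreconnectedSpace Γ.left := ⟨by
      rw [← (bcProj Γ φ).surjective.range_eq, ← Set.image_univ]
      exact huniv.image _ (bcProj Γ φ).continuous.continuousOn⟩
    exact ⟨⟨η[Γ].left (IsLocalRing.closedPoint k)⟩⟩

end Groth.Agent.SGAGen20.CommFinal
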