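import Groth.Agent.SGAGen20.WordBound
import Groth.Agent.SGAGen20.Conn

/-!
# The generated subgroup of a geometrically connected scheme is a set of words
-/

set_option backward.isDefEq.respectTransparency false
set_option backward.isDefEq.respectTransparency.types false
set_option linter.unusedSectionVars false
set_option synthInstance.maxHeartbeats 400000

universe u

open CategoryTheory AlgebraicGeometry MonoidalCategory CartesianMonoidalCategory MonObj GrpObj
open scoped CategoryTheory.Obj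

noncomputable section

namespace Groth.Agent.SGAGen20

variable {k : Type u} [Field k] {G X : Over (Spec (CommRingCat.of k))} [GrpObj G]

theorem prodWord_comp_hom {Γ : Over (Spec (CommRingCat.of k))} [GrpObj Γ] (i : Γ ⟶ G) [IsMonHom i] (f₀ : X ⟶ Γ)
    {T : Over (Spec (CommRingCat.of k))} {n : ℕ} (x : Fin n → (T ⟶ X)) (ε : Fin n → Bool) :
    prodWord f₀ x ε ≫ i = prodWord (f₀ ≫ i) x ε := by
  let h : (T ⟶ Γ) →* (T ⟶ G) := MonoidHom.mk' (fun a => a ≫ i) (fun a b => MonObj.mul_comp _ _ _)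
  show h _ = _
  rw [prodWord, map_list_prod, List.map_ofFn, prodWord]
  congr 1
  refine congrArg List.ofFn (funext fun j => ?_)
  show (if ε j then x j ≫ f₀ else (x j ≫ f₀)⁻¹) ≫ i = _
  split_ifs <;> simp [GrpObj.inv_comp]

theorem dense_wordSet_factor {Γ : Over (Spec (CommRingCat.of k))} [GrpObj Γ] (i : Γ ⟶ G) [IsMonHom i]
    [IsClosedImmersion i.left] {f : X ⟶ G} {f₀ : X ⟶ Γ} (hf₀ : f₀ ≫ i = f)
    (hr : Set.range i.left = closure (wordSet f)) : Dense (wordSet f₀) := fun z => by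
  rw [i.left.isClosedEmbedding.isInducing.closure_eq_preimage_closure_image, Set.mem_preimage]
  refine closure_mono ?_ (hr.subset ⟨z, rfl⟩)
  refine Set.iUnion_subset fun w => ?_
  rintro _ ⟨p, rfl⟩
  refine ⟨(w.hom f₀).left p, range_hom_subset f₀ w ⟨p, rfl⟩, ?_⟩
  have e : w.hom f₀ ≫ i = w.hom f := by
    clear p
    induction w with
    | one => exact IsMonHom.one_hom i
    | gen => exact hf₀
    | inv a ih =>
      show (a.hom f₀)⁻¹ ≫ i = (a.hom f)⁻¹
      rw [GrpObj.inv_comp, ih]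
    | mul a b iha ihb =>
      show ((fst _ _ ≫ a.hom f₀) * (snd _ _ ≫ b.hom f₀)) ≫ i = _
      rw [MonObj.mul_comp, Category.assoc, Category.assoc, iha, ihb]
      rfl
  rw [← e]
  rfl

theorem exists_range_eq_underWord [LocallyOfFiniteType G.hom] [LocallyOfFiniteType X.hom] [QuasiCompact X.hom]
    [GeometricallyReduced X.hom] [GeometricallyConnected X.hom] (f : X ⟶ G)
    (he : ∃ x : X.left, f.left x ∈ Set.range (η[G] : 𝟙_ (Over (Spec (CommRingCat.of k))) ⟶ G).left)
    (Γ : Over (Spec (CommRingCat.of k))) [GrpObj Γ] (i : Γ ⟶ G) [IsMonHom i] [IsClosedImmersion i.left]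
    (hf : ∃ f' : X ⟶ Γ, f' ≫ i = f)
    (hmin : ∀ (Γ' : Over (Spec (CommRingCat.of k))) (_ : GrpObj Γ') (i' : Γ' ⟶ G), IsMonHom i' → IsClosedImmersion i'.left →
        (∃ f'' : X ⟶ Γ', f'' ≫ i' = f) → ∃ j : Γ ⟶ Γ', j ≫ i' = i) :
    ∃ N : ℕ, Set.range i.left = {g | UnderWord f N g} := by
  obtain ⟨-, -, hr⟩ := smallest_props f Γ i hf hmin
  obtain ⟨f₀, hf₀⟩ := hf
  have : LocallyOfFiniteType Γ.hom := by
    rw [← Over.w i]
    infer_instance
  obtain ⟨x, p, hp⟩ := he
  obtain ⟨N, hN⟩ := exists_underWord_of_geometricallyConnected f₀ ⟨x, by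
    refine i.left.isClosedEmbedding.injective ?_
    rw [← Scheme.Hom.comp_apply, ← Scheme.Hom.comp_apply, ← Over.comp_left, ← Over.comp_left, hf₀,
      IsMonHom.one_hom, ← hp, point_eq p]⟩
    (dense_wordSet_factor i hf₀ hr)
  refine ⟨N, subset_antisymm ?_ ?_⟩
  · rintro _ ⟨y, rfl⟩
    obtain ⟨T, q, z, ε, rfl⟩ := hN y
    refine ⟨T, q, z, ε, ?_⟩
    rw [← hf₀, ← prodWord_comp_hom i f₀]
    rfl
  · rintro g ⟨T, q, z, ε, rfl⟩
    refine ⟨(prodWord f₀ z ε).left q, ?_⟩
    rw [← hf₀, ← prodWord_comp_hom i f₀]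
    rfl

end Groth.Agent.SGAGen20
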