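import Groth.Agent.SGAGen20.Gen
import Mathlib.AlgebraicGeometry.AlgClosed.Basic
import Mathlib.Algebra.Group.Submonoid.Membership

/-!
# Rational points below words over an algebraically closed field
-/

set_option backward.isDefEq.respectTransparency false
set_option backward.isDefEq.respectTransparency.types false

universe u

open CategoryTheory AlgebraicGeometry MonoidalCategory CartesianMonoidalCategory MonObj GrpObj
open scoped CategoryTheory.Obj

noncomputable section

namespace Groth.Agent.SGAGen20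

/-- A signed word in points. -/
def prodWord {C : Type*} [Category C] [CartesianMonoidalCategory C] {T X G : C} [GrpObj G] (f : X ⟶ G) {n : ℕ}
    (x : Fin n → (T ⟶ X)) (ε : Fin n → Bool) : T ⟶ G :=
  (List.ofFn fun j : Fin n => if ε j then x j ≫ f else (x j ≫ f)⁻¹).prod

theorem comp_prodWord {C : Type*} [Category C] [CartesianMonoidalCategory C] {T T' X G : C} [GrpObj G] (f : X ⟶ G)
    {n : ℕ} (x : Fin n → (T ⟶ X)) (ε : Fin n → Bool) (Φ : T' ⟶ T) :
    Φ ≫ prodWord f x ε = prodWord f (fun j => Φ ≫ x j) ε := by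
  let h : (T ⟶ G) →* (T' ⟶ G) := MonoidHom.mk' (fun a => Φ ≫ a) (fun a b => MonObj.comp_mul _ _ _)
  show h _ = _
  rw [prodWord, map_list_prod, List.map_ofFn]
  congr 1
  refine congrArg List.ofFn (funext fun j => ?_)
  show Φ ≫ (if ε j then x j ≫ f else (x j ≫ f)⁻¹) = _
  split_ifs <;> simp [GrpObj.comp_inv]

variable {k : Type u} [Field k] {G X : Over (Spec (CommRingCat.of k))}

/-- Powers of the parameter scheme. -/
def pow (X : Over (Spec (CommRingCat.of k))) : ℕ → Over (Spec (CommRingCat.of k))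
  | 0 => 𝟙_ _
  | n + 1 => X ⊗ pow X n

/-- The projections of a power. -/
def proj (X : Over (Spec (CommRingCat.of k))) : (n : ℕ) → Fin n → (pow X n ⟶ X)
  | 0 => fun j => j.elim0
  | n + 1 => Fin.cases (fst X (pow X n)) (fun j => snd X (pow X n) ≫ proj X n j)

theorem exists_tuple {T : Over (Spec (CommRingCat.of k))} : ∀ (n : ℕ) (x : Fin n → (T ⟶ X)),
    ∃ Φ : T ⟶ pow X n, ∀ j, Φ ≫ proj X n j = x j
  | 0, _ => ⟨toUnit T, fun j => j.elim0⟩
  | n + 1, x => by
      obtain ⟨Φ, hΦ⟩ := exists_tuple n (fun j => x j.succ)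
      refine ⟨lift (x 0) Φ, Fin.cases (lift_fst _ _) fun j => ?_⟩
      show lift (x 0) Φ ≫ snd X (pow X n) ≫ proj X n j = _
      rw [lift_snd_assoc, hΦ]

theorem locallyOfFiniteType_pow [LocallyOfFiniteType X.hom] : ∀ n, LocallyOfFiniteType (pow X n).hom
  | 0 => inferInstanceAs (LocallyOfFiniteType (𝟙 (Spec (CommRingCat.of k))))
  | n + 1 => by
      have := locallyOfFiniteType_pow n
      show LocallyOfFiniteType (Limits.pullback.fst X.hom (pow X n).hom ≫ X.hom)
      infer_instance

variable [IsAlgClosed k]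

omit [IsAlgClosed k] in
theorem point_eq (y : (𝟙_ (Over (Spec (CommRingCat.of k)))).left) : y = IsLocalRing.closedPoint k :=
  @Subsingleton.elim (Spec (CommRingCat.of k)) inferInstance _ _

theorem isClosed_point [LocallyOfFiniteType X.hom] (p : 𝟙_ (Over (Spec (CommRingCat.of k))) ⟶ X) :
    IsClosed ({p.left (IsLocalRing.closedPoint k)} : Set X.left) :=
  (pointEquivClosedPoint X.hom ⟨p.left, Over.w p⟩).2

theorem point_ext [LocallyOfFiniteType X.hom] {p q : 𝟙_ (Over (Spec (CommRingCat.of k))) ⟶ X}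
    (h : p.left (IsLocalRing.closedPoint k) = q.left (IsLocalRing.closedPoint k)) : p = q :=
  Over.OverMorphism.ext (congrArg Subtype.val
    ((pointEquivClosedPoint X.hom).injective (a₁ := ⟨p.left, Over.w p⟩) (a₂ := ⟨q.left, Over.w q⟩) (Subtype.ext h)))

theorem exists_point_of_closed [LocallyOfFiniteType X.hom] {y : X.left} (hy : IsClosed ({y} : Set X.left)) :
    ∃ p : 𝟙_ (Over (Spec (CommRingCat.of k))) ⟶ X, p.left (IsLocalRing.closedPoint k) = y := by
  refine ⟨Over.homMk _ ((pointEquivClosedPoint X.hom).symm ⟨y, hy⟩).2, ?_⟩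
  simp only [Over.homMk_left, pointEquivClosedPoint]
  exact pointOfClosedPoint_apply _ _ _ _

/-- A rational point in the image of a scheme locally of finite type lifts to a rational point. -/
theorem exists_point_over [LocallyOfFiniteType G.hom] [LocallyOfFiniteType X.hom] (f : X ⟶ G)
    (g : 𝟙_ (Over (Spec (CommRingCat.of k))) ⟶ G) (hg : g.left (IsLocalRing.closedPoint k) ∈ Set.range f.left) :
    ∃ p, p ≫ f = g := by
  have := LocallyOfFiniteType.jacobsonSpace X.hom
  obtain ⟨x₀, hx₀⟩ := hg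
  obtain ⟨x, hx, hxc⟩ := nonempty_inter_closedPoints (X := X.left)
    (Z := f.left ⁻¹' {g.left (IsLocalRing.closedPoint k)}) ⟨x₀, hx₀⟩
    ((isClosed_point g).preimage f.left.continuous).isLocallyClosed
  obtain ⟨p, hp⟩ := exists_point_of_closed hxc
  refine ⟨p, point_ext ?_⟩
  rw [Over.comp_left, Scheme.Hom.comp_apply, hp]
  exact hx

variable [GrpObj G] [LocallyOfFiniteType G.hom] [LocallyOfFiniteType X.hom] (f : X ⟶ G)

/-- A rational point below a word is a word in rational points. -/
theorem exists_points_of_word {n : ℕ} {T : Over (Spec (CommRingCat.of k))} (p : T.left)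
    (g : 𝟙_ (Over (Spec (CommRingCat.of k))) ⟶ G) (x : Fin n → (T ⟶ X)) (ε : Fin n → Bool)
    (h : (prodWord f x ε).left p = g.left (IsLocalRing.closedPoint k)) :
    ∃ z : Fin n → (𝟙_ (Over (Spec (CommRingCat.of k))) ⟶ X), prodWord f z ε = g := by
  obtain ⟨Φ, hΦ⟩ := exists_tuple n x
  have := locallyOfFiniteType_pow (X := X) n
  have e : Φ ≫ prodWord f (proj X n) ε = prodWord f x ε := by rw [comp_prodWord]; simp only [hΦ]
  obtain ⟨q, hq⟩ := exists_point_over (prodWord f (proj X n) ε) g ⟨Φ.left p, by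
    rw [← h, ← e]
    rfl⟩
  exact ⟨fun j => q ≫ proj X n j, by rw [← comp_prodWord, hq]⟩

/-- Rational points below words form the subgroup generated by the rational points in the image. -/
theorem setOf_word_eq_closure :
    {g : 𝟙_ (Over (Spec (CommRingCat.of k))) ⟶ G | ∃ (n : ℕ) (T : Over (Spec (CommRingCat.of k))) (p : T.left)
      (p₀ : (𝟙_ (Over (Spec (CommRingCat.of k)))).left) (x : Fin n → (T ⟶ X)) (ε : Fin n → Bool),
      (prodWord f x ε).left p = g.left p₀} =
    ((Subgroup.closure {g : 𝟙_ (Over (Spec (CommRingCat.of k))) ⟶ G |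
        ∃ p₀ : (𝟙_ (Over (Spec (CommRingCat.of k)))).left, g.left p₀ ∈ Set.range f.left} :
      Subgroup (𝟙_ (Over (Spec (CommRingCat.of k))) ⟶ G)) : Set _) := by
  ext g
  constructor
  · rintro ⟨n, T, p, p₀, x, ε, h⟩
    rw [point_eq p₀] at h
    obtain ⟨z, rfl⟩ := exists_points_of_word f p g x ε h
    refine Subgroup.list_prod_mem _ fun y hy => ?_
    obtain ⟨j, rfl⟩ := List.mem_ofFn.mp hy
    have hz : z j ≫ f ∈ Subgroup.closure {g : 𝟙_ (Over (Spec (CommRingCat.of k))) ⟶ G |
        ∃ p₀ : (𝟙_ (Over (Spec (CommRingCat.of k)))).left, g.left p₀ ∈ Set.range f.left} :=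
      Subgroup.subset_closure ⟨IsLocalRing.closedPoint k, _, rfl⟩
    split_ifs
    · exact hz
    · exact inv_mem hz
  · intro hg
    rw [SetLike.mem_coe, ← Subgroup.mem_toSubmonoid, Subgroup.closure_toSubmonoid] at hg
    obtain ⟨l, hl, rfl⟩ := Submonoid.exists_list_of_mem_closure hg
    have key : ∀ j : Fin l.length, ∃ (z : 𝟙_ (Over (Spec (CommRingCat.of k))) ⟶ X) (b : Bool),
        l.get j = if b then z ≫ f else (z ≫ f)⁻¹ := fun j => by
      rcases hl _ (l.get_mem j) with ⟨p₀, h⟩ | ⟨p₀, h⟩ <;> rw [point_eq p₀] at h <;>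
        obtain ⟨z, hz⟩ := exists_point_over f _ h
      · exact ⟨z, true, hz.symm⟩
      · refine ⟨z, false, ?_⟩
        simp [hz]
    choose z b hz using key
    refine ⟨l.length, 𝟙_ _, IsLocalRing.closedPoint k, IsLocalRing.closedPoint k, z, b, ?_⟩
    congr 2
    rw [prodWord, ← funext hz, List.ofFn_get]

end Groth.Agent.SGAGen20
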