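import Groth.Agent.SpecLib.Basic
import Groth.Agent.S12442
import Mathlib.AlgebraicGeometry.Morphisms.FinitePresentation
import Mathlib.AlgebraicGeometry.Group.Abelian

/-!
# A bound on the length of words covering a quasi-compact group
-/

set_option backward.isDefEq.respectTransparency false
set_option backward.isDefEq.respectTransparency.types false

universe u

open CategoryTheory AlgebraicGeometry MonoidalCategory CartesianMonoidalCategory MonObj GrpObj
open scoped CategoryTheory.Obj

noncomputable section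

namespace Groth.Agent.SGAGen20.Bound

/-- Countably many locally finitely presented morphisms covering a quasi-compact scheme: finitely many cover it. -/
theorem exists_finite_cover {H : Scheme.{u}} [CompactSpace H] {J : Type*} (W : J → Scheme.{u}) (w : ∀ j, W j ⟶ H)
    [∀ j, LocallyOfFinitePresentation (w j)] (hcov : ∀ h : H, ∃ j, h ∈ Set.range (w j)) :
    ∃ t : Finset J, ∀ h : H, ∃ j ∈ t, h ∈ Set.range (w j) := by
  classical
  let 𝒰 := H.affineCover.finiteSubcover
  have : ∀ i : 𝒰.I₀, IsAffine (𝒰.X i) := fun i => by dsimp [𝒰]; infer_instance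
  have key : ∀ i : 𝒰.I₀, ∃ t : Finset J, ∀ u : 𝒰.X i, ∃ j ∈ t, 𝒰.f i u ∈ Set.range (w j) := by
    intro i
    let κ := Σ j : J, {V : (Limits.pullback (w j) (𝒰.f i)).Opens // IsAffineOpen V}
    let E : κ → Set (𝒰.X i) := fun q => Set.range (q.2.1.ι ≫ Limits.pullback.snd (w q.1) (𝒰.f i))
    have hE : ∀ q, Topology.IsConstructible (E q) := fun q => by
      have : LocallyOfFinitePresentation (Limits.pullback.snd (w q.1) (𝒰.f i)) :=
        MorphismProperty.pullback_snd _ _ inferInstance
      have : IsAffine q.2.1.toScheme := q.2.2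
      have : QuasiCompact (q.2.1.ι ≫ Limits.pullback.snd (w q.1) (𝒰.f i)) :=
        HasAffineProperty.iff_of_isAffine.mpr (inferInstanceAs (CompactSpace q.2.1.toScheme))
      show Topology.IsConstructible (Set.range _)
      rw [← Set.image_univ]
      exact Scheme.Hom.isConstructible_image _ Topology.IsConstructible.univ
    obtain ⟨t, ht⟩ := @IsCompact.elim_finite_subcover (𝒰.X i) (constructibleTopology (𝒰.X i)) Set.univ κ
      (@isCompact_univ (𝒰.X i) (constructibleTopology (𝒰.X i)) Groth.Agent.SpecLib.compactSpace_cons)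
      E (fun q => (Groth.Agent.SpecLib.cons_clopen (hE q)).2) (by
        intro u _
        obtain ⟨j, x, hx⟩ := hcov (𝒰.f i u)
        obtain ⟨z, -, hz⟩ := Scheme.Pullback.exists_preimage_pullback (f := w j) (g := 𝒰.f i) x u hx
        obtain ⟨V, hV, hzV, -⟩ := exists_isAffineOpen_mem_and_subset
          (show z ∈ (⊤ : (Limits.pullback (w j) (𝒰.f i)).Opens) from trivial)
        exact Set.mem_iUnion.mpr ⟨⟨j, V, hV⟩, ⟨z, hzV⟩, hz⟩)
    refine ⟨t.image Sigma.fst, fun u => ?_⟩
    obtain ⟨q, hq, v, rfl⟩ : ∃ q ∈ t, u ∈ E q := by simpa using ht (Set.mem_univ u)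
    refine ⟨q.1, Finset.mem_image_of_mem _ hq, (q.2.1.ι ≫ Limits.pullback.fst (w q.1) (𝒰.f i)) v, ?_⟩
    rw [← Scheme.Hom.comp_apply, ← Scheme.Hom.comp_apply, Category.assoc, Category.assoc,
      Limits.pullback.condition]
  choose t ht using key
  refine ⟨Finset.univ.biUnion t, fun h => ?_⟩
  obtain ⟨u, hu⟩ := 𝒰.covers h
  obtain ⟨j, hj, hjr⟩ := ht (𝒰.idx h) u
  exact ⟨j, Finset.mem_biUnion.mpr ⟨_, Finset.mem_univ _, hj⟩, hu ▸ hjr⟩

variable {S : Scheme.{u}} (X : Over S)

/-- Powers of the parameter scheme. -/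
def pow : ℕ → Over S
  | 0 => 𝟙_ _
  | n + 1 => X ⊗ pow n

/-- The projections of a power. -/
def proj : (n : ℕ) → Fin n → (pow X n ⟶ X)
  | 0 => fun j => j.elim0
  | n + 1 => Fin.cases (fst X (pow X n)) (fun j => snd X (pow X n) ≫ proj n j)

theorem exists_tuple {T : Over S} : ∀ (n : ℕ) (x : Fin n → (T ⟶ X)),
    ∃ Φ : T ⟶ pow X n, ∀ j, Φ ≫ proj X n j = x j
  | 0, _ => ⟨toUnit T, fun j => j.elim0⟩
  | n + 1, x => by
      obtain ⟨Φ, hΦ⟩ := exists_tuple n (fun j => x j.succ)
      refine ⟨lift (x 0) Φ, Fin.cases (lift_fst _ _) fun j => ?_⟩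
      show lift (x 0) Φ ≫ snd X (pow X n) ≫ proj X n j = _
      rw [lift_snd_assoc, hΦ]

theorem locallyOfFinitePresentation_pow [LocallyOfFinitePresentation X.hom] :
    ∀ n, LocallyOfFinitePresentation (pow X n).hom
  | 0 => inferInstanceAs (LocallyOfFinitePresentation (𝟙 S))
  | n + 1 => by
      have := locallyOfFinitePresentation_pow n
      show LocallyOfFinitePresentation (Limits.pullback.fst X.hom (pow X n).hom ≫ X.hom)
      have : LocallyOfFinitePresentation (Limits.pullback.fst X.hom (pow X n).hom) :=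
        MorphismProperty.pullback_fst _ _ ‹LocallyOfFinitePresentation (pow X n).hom›
      infer_instance

variable {X} {H : Over S} [GrpObj H] (f : X ⟶ H)

/-- A signed word in points. -/
def prodWord {T : Over S} {n : ℕ} (x : Fin n → (T ⟶ X)) (ε : Fin n → Bool) : T ⟶ H :=
  (List.ofFn fun j : Fin n => if ε j then x j ≫ f else (x j ≫ f)⁻¹).prod

theorem comp_prodWord {T T' : Over S} {n : ℕ} (x : Fin n → (T ⟶ X)) (ε : Fin n → Bool) (Φ : T' ⟶ T) :
    Φ ≫ prodWord f x ε = prodWord f (fun j => Φ ≫ x j) ε := by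
  let h : (T ⟶ H) →* (T' ⟶ H) := MonoidHom.mk' (fun a => Φ ≫ a) (fun a b => MonObj.comp_mul _ _ _)
  show h _ = _
  rw [prodWord, map_list_prod, List.map_ofFn]
  congr 1
  refine congrArg List.ofFn (funext fun j => ?_)
  show Φ ≫ (if ε j then x j ≫ f else (x j ≫ f)⁻¹) = _
  split_ifs <;> simp [GrpObj.comp_inv]

/-- If all points lie below words then boundedly long words suffice. -/
theorem exists_bound [LocallyOfFinitePresentation X.hom] [LocallyOfFinitePresentation H.hom] [CompactSpace H.left]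
    (hsurj : ∀ h : H.left, ∃ (n : ℕ) (T : Over S) (p : T.left) (x : Fin n → (T ⟶ X)) (ε : Fin n → Bool),
      (prodWord f x ε).left p = h) :
    ∃ n : ℕ, ∀ h : H.left, ∃ (m : ℕ) (_ : m ≤ n) (T : Over S) (p : T.left) (x : Fin m → (T ⟶ X)) (ε : Fin m → Bool),
      (prodWord f x ε).left p = h := by
  classical
  let W : (Σ n : ℕ, Fin n → Bool) → Scheme.{u} := fun j => (pow X j.1).left
  let w : ∀ j, W j ⟶ H.left := fun j => (prodWord f (proj X j.1) j.2).left
  have : ∀ j, LocallyOfFinitePresentation (w j) := fun j => by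
    have := locallyOfFinitePresentation_pow X j.1
    have : LocallyOfFinitePresentation ((prodWord f (proj X j.1) j.2).left ≫ H.hom) := by
      rw [Over.w]; infer_instance
    have : LocallyOfFiniteType H.hom := inferInstance
    exact Groth.Agent.S12442.locallyOfFinitePresentation_of_comp _ H.hom
  obtain ⟨t, ht⟩ := exists_finite_cover W w fun h => by
    obtain ⟨n, T, p, x, ε, rfl⟩ := hsurj h
    obtain ⟨Φ, hΦ⟩ := exists_tuple X n x
    refine ⟨⟨n, ε⟩, Φ.left p, ?_⟩
    show (prodWord f (proj X n) ε).left (Φ.left p) = _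
    rw [← Scheme.Hom.comp_apply, ← Over.comp_left, comp_prodWord]
    simp only [hΦ]
  refine ⟨t.sup fun j => j.1, fun h => ?_⟩
  obtain ⟨⟨m, ε⟩, hj, p, hp⟩ := ht h
  exact ⟨m, Finset.le_sup (f := fun j : Σ n : ℕ, Fin n → Bool => j.1) hj, pow X m, p, proj X m, ε, hp⟩

end Groth.Agent.SGAGen20.Bound
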