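import Groth.Agent.SGAGen20.WordRange

/-!
# Generated subgroups containing a subgroup of finite index
-/

set_option backward.isDefEq.respectTransparency false
set_option backward.isDefEq.respectTransparency.types false
set_option linter.unusedSectionVars false
set_option synthInstance.maxHeartbeats 400000

universe u

open CategoryTheory AlgebraicGeometry MonoidalCategory CartesianMonoidalCategory MonObj GrpObj
open Groth.Agent.GrpSchLib (left_comp_apply)
open Groth.Agent.SGAGen20.KPoints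
open scoped CategoryTheory.Obj

noncomputable section

namespace Groth.Agent.SGAGen20

variable {k : Type u} [Field k] {G X H : Over (Spec (CommRingCat.of k))} [GrpObj G]

theorem locallyOfFiniteType_obj' [LocallyOfFiniteType X.hom] : ∀ w : Word, LocallyOfFiniteType (w.obj X).hom
  | .one => inferInstanceAs (LocallyOfFiniteType (𝟙 (Spec (CommRingCat.of k))))
  | .gen => ‹_›
  | .inv a => locallyOfFiniteType_obj' a
  | .mul a b => by
      have := locallyOfFiniteType_obj' a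
      have := locallyOfFiniteType_obj' b
      show LocallyOfFiniteType (Limits.pullback.fst (a.obj X).hom (b.obj X).hom ≫ (a.obj X).hom)
      infer_instance

/-- Values of words at rational points lie in the generated abstract subgroup. -/
theorem comp_hom_mem_closure (f : X ⟶ G) : ∀ (w : Word) (p : 𝟙_ (Over (Spec (CommRingCat.of k))) ⟶ w.obj X),
    p ≫ w.hom f ∈ Subgroup.closure {g : 𝟙_ (Over (Spec (CommRingCat.of k))) ⟶ G |
        ∃ p₀ : (𝟙_ (Over (Spec (CommRingCat.of k)))).left, g.left p₀ ∈ Set.range f.left}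
  | .one, p => by
      rw [show Word.hom f .one = (1 : 𝟙_ _ ⟶ G) from MonObj.one_eq_one _, MonObj.comp_one]
      exact one_mem _
  | .gen, p => Subgroup.subset_closure ⟨IsLocalRing.closedPoint k, _, rfl⟩
  | .inv a, p => by
      show p ≫ (a.hom f)⁻¹ ∈ _
      rw [GrpObj.comp_inv]
      exact inv_mem (comp_hom_mem_closure f a p)
  | .mul a b, p => by
      show p ≫ ((fst _ _ ≫ a.hom f) * (snd _ _ ≫ b.hom f)) ∈ _
      rw [MonObj.comp_mul, ← Category.assoc, ← Category.assoc]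
      exact mul_mem (comp_hom_mem_closure f a _) (comp_hom_mem_closure f b _)

theorem exists_pad {T : Over (Spec (CommRingCat.of k))} (f : X ⟶ G) (x₀ : T ⟶ X) (hx₀ : x₀ ≫ f = 1) {n : ℕ}
    (z : Fin n → (T ⟶ X)) (ε : Fin n → Bool) :
    ∀ M, n ≤ M → ∃ (z' : Fin M → (T ⟶ X)) (ε' : Fin M → Bool), prodWord f z' ε' = prodWord f z ε := by
  intro M hM
  induction M, hM using Nat.le_induction with
  | base => exact ⟨z, ε, rfl⟩
  | succ M _ ih =>
    obtain ⟨z', ε', h'⟩ := ih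
    refine ⟨Fin.append z' (fun _ : Fin 1 => x₀), Fin.append ε' (fun _ : Fin 1 => true), ?_⟩
    rw [prodWord_append, h']
    simp [prodWord, hx₀]

variable [IsAlgClosed k] [GrpObj H] [LocallyOfFiniteType G.hom] [LocallyOfFiniteType X.hom]
  [GeometricallyReduced X.hom] (f : X ⟶ G) (h : H ⟶ G) [IsMonHom h] [IsClosedImmersion h.left]

theorem range_eq_of_finite_index (hH : Set.range h.left ⊆ Set.range f.left)
    (Γ : Over (Spec (CommRingCat.of k))) [GrpObj Γ] (i : Γ ⟶ G) [IsMonHom i] [IsClosedImmersion i.left]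
    (hf : ∃ f' : X ⟶ Γ, f' ≫ i = f)
    (hmin : ∀ (Γ' : Over (Spec (CommRingCat.of k))) (_ : GrpObj Γ') (i' : Γ' ⟶ G), IsMonHom i' → IsClosedImmersion i'.left →
        (∃ f'' : X ⟶ Γ', f'' ≫ i' = f) → ∃ j : Γ ⟶ Γ', j ≫ i' = i)
    (F : Finset (𝟙_ (Over (Spec (CommRingCat.of k))) ⟶ G))
    (hFw : ∀ a ∈ F, ∃ (n : ℕ) (T : Over (Spec (CommRingCat.of k))) (p : T.left)
      (p₀ : (𝟙_ (Over (Spec (CommRingCat.of k)))).left) (x : Fin n → (T ⟶ X)) (ε : Fin n → Bool),
        (prodWord f x ε).left p = a.left p₀)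
    (hFcov : ∀ g : 𝟙_ (Over (Spec (CommRingCat.of k))) ⟶ G, (∃ (n : ℕ) (T : Over (Spec (CommRingCat.of k))) (p : T.left)
      (p₀ : (𝟙_ (Over (Spec (CommRingCat.of k)))).left) (x : Fin n → (T ⟶ X)) (ε : Fin n → Bool),
        (prodWord f x ε).left p = g.left p₀) →
      ∃ a ∈ F, ∃ y : 𝟙_ (Over (Spec (CommRingCat.of k))) ⟶ H, g = a * (y ≫ h)) :
    (∃ m : ℕ, Set.range i.left = {g | UnderWord f m g}) ∧
      ∃ F : Finset (𝟙_ (Over (Spec (CommRingCat.of k))) ⟶ G), Set.range i.left =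
        ⋃ a ∈ F, (fun z => ((λ_ G).inv ≫ (a ▷ G) ≫ μ[G]).left z) '' Set.range h.left := by
  classical
  let tr : (𝟙_ (Over (Spec (CommRingCat.of k))) ⟶ G) → (G ⟶ G) := fun a => (λ_ G).inv ≫ (a ▷ G) ≫ μ[G]
  have htr : ∀ a, tr a = (toUnit G ≫ a) * 𝟙 G := fun a => by
    show (λ_ G).inv ≫ (a ▷ G) ≫ μ[G] = _
    rw [Hom.mul_def, ← Category.assoc]
    congr 1
    apply CartesianMonoidalCategory.hom_ext <;> simp [toUnit_unique ((λ_ G).inv ≫ fst _ _) (toUnit G)]
  obtain ⟨f₀, hf₀⟩ := hf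
  obtain ⟨-, -, hr⟩ := smallest_props f Γ i ⟨f₀, hf₀⟩ hmin
  obtain ⟨x₀, hx₀⟩ := exists_point_over f η[G] (hH ⟨η[H].left (IsLocalRing.closedPoint k), by
    rw [← left_comp_apply, IsMonHom.one_hom]⟩)
  replace hx₀ : x₀ ≫ f = 1 := by rw [hx₀]; simp [MonObj.one_eq_one]
  have hFz : ∀ a : F, ∃ (n : ℕ) (z : Fin n → (𝟙_ (Over (Spec (CommRingCat.of k))) ⟶ X)) (ε : Fin n → Bool),
      prodWord f z ε = a.1 := fun a => by
    obtain ⟨n, T, p, p₀, x, ε, hp⟩ := hFw a.1 a.2
    rw [point_eq p₀] at hp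
    obtain ⟨z, hz⟩ := exists_points_of_word f p a.1 x ε hp
    exact ⟨n, z, ε, hz⟩
  choose n z ε hz using hFz
  let M := Finset.univ.sup n
  let C : Set G.left := ⋃ a ∈ F, (fun z => (tr a).left z) '' Set.range h.left
  have hC : IsClosed C := by
    refine (Set.Finite.isClosed_biUnion F.finite_toSet fun a _ => ?_)
    have hinv : ((toUnit G ≫ a) * 𝟙 G) ≫ ((toUnit G ≫ a)⁻¹ * 𝟙 G) = 𝟙 G := by
      simp [MonObj.comp_mul, GrpObj.comp_inv]
    have hinv' : ((toUnit G ≫ a)⁻¹ * 𝟙 G) ≫ ((toUnit G ≫ a) * 𝟙 G) = 𝟙 G := by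
      simp [MonObj.comp_mul, GrpObj.comp_inv]
    let e : G ≅ G := ⟨_, _, hinv, hinv'⟩
    have : IsIso e.hom.left := ((Over.forget _).mapIso e).isIso_hom
    rw [htr]
    exact e.hom.left.homeomorph.isClosedMap _ h.left.isClosedEmbedding.isClosed_range
  have hev : ∀ a (y : 𝟙_ (Over (Spec (CommRingCat.of k))) ⟶ H), ev (a * (y ≫ h)) = (tr a).left (ev (y ≫ h)) := by
    intro a y
    show _ = (tr a).left ((y ≫ h).left _)
    rw [← left_comp_apply, htr, MonObj.comp_mul, Category.comp_id, ← Category.assoc, comp_toUnit,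
      toUnit_unique (toUnit (𝟙_ _)) (𝟙 _), Category.id_comp]
  have hwC : wordSet f ⊆ C := Set.iUnion_subset fun w => by
    rintro _ ⟨q, rfl⟩
    by_contra hq
    have := locallyOfFiniteType_obj' (X := X) w
    obtain ⟨p, -, hp⟩ := exists_ev_mem (G := w.obj X) (hC.isOpen_compl.preimage (w.hom f).left.continuous)
      isClosed_univ (Z := Set.univ) ⟨q, trivial, hq⟩
    have hmem := comp_hom_mem_closure f w p
    rw [← SetLike.mem_coe, ← setOf_word_eq_closure] at hmem
    obtain ⟨a, ha, y, hy⟩ := hFcov _ hmem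
    exact hp (show ev (p ≫ w.hom f) ∈ C by
      rw [hy, hev]
      exact Set.mem_biUnion ha ⟨_, ⟨ev y, rfl⟩, rfl⟩)
  have hCU : C ⊆ {g | UnderWord f (M + 1) g} := by
    intro g hg
    obtain ⟨a, ha, _, ⟨q, rfl⟩, rfl⟩ := Set.mem_iUnion₂.mp hg
    obtain ⟨x, hx⟩ := hH ⟨q, rfl⟩
    obtain ⟨w, hw₁, -⟩ := Scheme.Pullback.exists_preimage_pullback (f := h.left) (g := f.left) q x hx.symm
    let W : Over (Spec (CommRingCat.of k)) := Over.mk (Limits.pullback.fst h.left f.left ≫ H.hom)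
    let p₁ : W ⟶ H := Over.homMk (Limits.pullback.fst h.left f.left) rfl
    let x₁ : W ⟶ X := Over.homMk (Limits.pullback.snd h.left f.left) (by
      show _ = Limits.pullback.fst h.left f.left ≫ H.hom
      conv_rhs => rw [← Over.w h]
      rw [Limits.pullback.condition_assoc, Over.w f])
    have hpx : p₁ ≫ h = x₁ ≫ f := Over.OverMorphism.ext Limits.pullback.condition
    obtain ⟨z', ε', hz'⟩ := exists_pad f x₀ hx₀ (z ⟨a, ha⟩) (ε ⟨a, ha⟩) M (Finset.le_sup (Finset.mem_univ _))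
    refine ⟨W, w, Fin.append (fun j => toUnit W ≫ z' j) (fun _ : Fin 1 => x₁),
      Fin.append ε' (fun _ : Fin 1 => true), ?_⟩
    rw [prodWord_append, ← comp_prodWord, hz', hz]
    have e : prodWord f (fun _ : Fin 1 => x₁) (fun _ : Fin 1 => true) = p₁ ≫ h := by simp [prodWord, hpx]
    have e' : (toUnit W ≫ a) * (p₁ ≫ h) = (p₁ ≫ h) ≫ tr a := by
      rw [htr, MonObj.comp_mul, Category.comp_id, ← Category.assoc, comp_toUnit]
    rw [e, e', left_comp_apply, left_comp_apply]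
    show (tr a).left (h.left (p₁.left w)) = _
    rw [show p₁.left w = q from hw₁]
  have hUi : ∀ m, {g | UnderWord f m g} ⊆ Set.range i.left := by
    rintro m g ⟨T, q, x, η', rfl⟩
    refine ⟨(prodWord f₀ x η').left q, ?_⟩
    rw [← hf₀, ← prodWord_comp_hom i f₀]
    rfl
  have hiC : Set.range i.left ⊆ C := hr.subset.trans (closure_minimal hwC hC)
  exact ⟨⟨M + 1, subset_antisymm (hiC.trans hCU) (hUi _)⟩, F, subset_antisymm hiC (hCU.trans (hUi _))⟩

end Groth.Agent.SGAGen20
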