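import Mathlib.GroupTheory.Schreier
import Mathlib.GroupTheory.FiniteAbelian.Basic
import Mathlib.Algebra.Group.Pointwise.Set.Basic
import Mathlib.Algebra.Group.Commutator

/-!
# Baer's theorem on commutator subgroups of two normal subgroups
-/

namespace Groth.Agent.SGAGen20.Baer

open Subgroup
open scoped Pointwise commutatorElement

variable {P : Type*} [Group P]

theorem finite_of_torsion_abelian (K : Subgroup P) (X : Set P) (hX : X.Finite) (hK : K = closure X)
    (hcomm : ∀ x ∈ K, ∀ y ∈ K, x * y = y * x) (htor : ∀ x ∈ X, IsOfFinOrder x) : Finite K := by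
  let _ : CommGroup K := { (inferInstance : Group K) with mul_comm := fun a b => Subtype.ext (hcomm _ a.2 _ b.2) }
  have : Group.FG K := (Group.fg_iff_subgroup_fg _).mpr ⟨hX.toFinset, by simp [hK]⟩
  refine CommGroup.finite_of_fg_isMulTorsion (G := K) ?_
  rintro ⟨x, hx⟩
  refine (Submonoid.isOfFinOrder_coe (H := K.toSubmonoid) (x := ⟨x, hx⟩)).mp ?_
  show IsOfFinOrder x
  subst hK
  induction hx using Subgroup.closure_induction with
  | mem x hx => exact htor x hx
  | one => exact IsOfFinOrder.one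
  | mul a b ha hb iha ihb => exact (Commute.isOfFinOrder_mul (hcomm a ha b hb) iha ihb)
  | inv a ha iha => exact iha.inv

theorem isOfFinOrder_of_finite_powers {c : P} {X : Set P} (hX : X.Finite) (h : ∀ n : ℕ, c ^ n ∈ X) :
    IsOfFinOrder c := by
  by_contra hc
  exact Set.infinite_range_of_injective (injective_pow_iff_not_isOfFinOrder.mpr hc)
    (hX.subset (Set.range_subset_iff.mpr h))

set_option linter.unusedSectionVars false

variable (A B : Subgroup P)

/-- The set of commutators of two subgroups. -/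
def comms : Set P := {g | ∃ a ∈ A, ∃ b ∈ B, ⁅a, b⁆ = g}

theorem commutator_eq : ⁅A, B⁆ = closure (comms A B) := by exact commutator_def A B

theorem finite_comms_map {Q : Type*} [Group Q] (f : P →* Q) (hfin : (comms A B).Finite) :
    (comms (A.map f) (B.map f)).Finite := by
  refine (hfin.image f).subset ?_
  rintro _ ⟨_, ⟨a, ha, rfl⟩, _, ⟨b, hb, rfl⟩, rfl⟩
  exact ⟨⁅a, b⁆, ⟨a, ha, b, hb, rfl⟩, map_commutatorElement f a b⟩

theorem finite_of_ker_finite {Q : Type*} [Group Q] (f : P →* Q) (K L : Subgroup P) [Finite L] (hL : f.ker ≤ L)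
    [Finite (K.map f)] : Finite K := by
  have hfib : ∀ y : K.map f, ((fun x => x) '' {x : P | x ∈ K ∧ f x = y.1}).Finite := by
    intro y
    obtain ⟨x₀, -, hx₀⟩ := y.2
    refine ((Set.toFinite (L : Set P)).image (x₀ * ·)).subset ?_
    rintro _ ⟨x, ⟨-, hx⟩, rfl⟩
    exact ⟨x₀⁻¹ * x, hL (by simp [MonoidHom.mem_ker, hx, hx₀]), by simp⟩
  refine Set.Finite.to_subtype ((Set.finite_iUnion hfib).subset fun x hx => ?_)
  exact Set.mem_iUnion.mpr ⟨⟨f x, x, hx, rfl⟩, x, ⟨hx, rfl⟩, rfl⟩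

variable [A.Normal] [B.Normal]

theorem finite_of_central (hfin : (comms A B).Finite) (hcomm : ∀ x ∈ ⁅A, B⁆, ∀ y ∈ ⁅A, B⁆, x * y = y * x)
    (hc : ∀ a ∈ A, ∀ x ∈ ⁅A, B⁆, a * x = x * a) : Finite (⁅A, B⁆ : Subgroup P) := by
  refine finite_of_torsion_abelian _ _ hfin (commutator_eq A B) hcomm ?_
  rintro _ ⟨a, ha, b, hb, rfl⟩
  refine isOfFinOrder_of_finite_powers hfin fun n => ⟨a ^ n, pow_mem ha n, b, hb, ?_⟩
  induction n with
  | zero => simp [commutatorElement_def]
  | succ n ih =>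
    have e : ⁅a * a ^ n, b⁆ = a * ⁅a ^ n, b⁆ * a⁻¹ * ⁅a, b⁆ := by
      simp only [commutatorElement_def]
      group
    rw [pow_succ', e, ih, hc a ha _ (pow_mem (commutator_mem_commutator ha hb) n), mul_inv_cancel_right, pow_succ]

theorem finite_of_abelian (hfin : (comms A B).Finite) (hcomm : ∀ x ∈ ⁅A, B⁆, ∀ y ∈ ⁅A, B⁆, x * y = y * x) :
    Finite (⁅A, B⁆ : Subgroup P) := by
  set K := ⁅A, B⁆
  have hKB : K ≤ B := (commutator_le_inf A B).trans inf_le_right
  have hJK : ⁅A, K⁆ ≤ K := (commutator_le_inf A K).trans inf_le_right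
  have hsub : comms A K ⊆ comms A B := fun g ⟨a, ha, x, hx, h⟩ => ⟨a, ha, x, hKB hx, h⟩
  have hJ : Finite (⁅A, K⁆ : Subgroup P) := by
    refine finite_of_torsion_abelian _ _ (hfin.subset hsub) (commutator_eq A K)
      (fun x hx y hy => hcomm x (hJK hx) y (hJK hy)) ?_
    rintro _ ⟨a, ha, x, hx, rfl⟩
    refine isOfFinOrder_of_finite_powers hfin fun n => hsub ⟨a, ha, x ^ n, pow_mem hx n, ?_⟩
    have hax : a * x * a⁻¹ ∈ K := Subgroup.Normal.conj_mem inferInstance x hx a
    simp only [commutatorElement_def]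
    rw [Commute.mul_pow (hcomm _ hax _ (inv_mem hx)), inv_pow, conj_pow]
  let q := QuotientGroup.mk' ⁅A, K⁆
  have hs := QuotientGroup.mk'_surjective ⁅A, K⁆
  have : (A.map q).Normal := Subgroup.Normal.map inferInstance q hs
  have : (B.map q).Normal := Subgroup.Normal.map inferInstance q hs
  have hm : ⁅A.map q, B.map q⁆ = K.map q := (map_commutator A B q).symm
  have : Finite (K.map q) := by
    rw [← hm]
    refine finite_of_central _ _ (finite_comms_map A B q hfin) ?_ ?_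
    · rw [hm]
      rintro _ ⟨x, hx, rfl⟩ _ ⟨y, hy, rfl⟩
      rw [← map_mul, hcomm x hx y hy, map_mul]
    · rw [hm]
      rintro _ ⟨a, ha, rfl⟩ _ ⟨x, hx, rfl⟩
      rw [← commutatorElement_eq_one_iff_mul_comm, ← map_commutatorElement]
      exact (QuotientGroup.eq_one_iff _).mpr (commutator_mem_commutator ha hx)
  exact finite_of_ker_finite q K ⁅A, K⁆ (QuotientGroup.ker_mk' _).le

/-- Two normal subgroups with finitely many commutators have a finite commutator subgroup. -/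
theorem finite_commutator (hfin : (comms A B).Finite) : Finite (⁅A, B⁆ : Subgroup P) := by
  set K := ⁅A, B⁆ with hK
  have := hfin.to_subtype
  have hconj : ∀ g : P, ∀ x ∈ comms A B, g * x * g⁻¹ ∈ comms A B := by
    rintro g _ ⟨a, ha, b, hb, rfl⟩
    refine ⟨g * a * g⁻¹, Subgroup.Normal.conj_mem inferInstance a ha g, g * b * g⁻¹,
      Subgroup.Normal.conj_mem inferInstance b hb g, ?_⟩
    simp only [commutatorElement_def]
    group
  let σ : K →* Equiv.Perm (comms A B) :=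
    { toFun := fun g =>
        { toFun := fun x => ⟨g.1 * x.1 * g.1⁻¹, hconj _ _ x.2⟩
          invFun := fun x => ⟨g.1⁻¹ * x.1 * g.1⁻¹⁻¹, hconj _ _ x.2⟩
          left_inv := fun x => Subtype.ext (by group)
          right_inv := fun x => Subtype.ext (by group) }
      map_one' := Equiv.ext fun x => Subtype.ext (by simp)
      map_mul' := fun g h => Equiv.ext fun x => Subtype.ext (by simp [mul_assoc]) }
  have hker : σ.ker ≤ center K := fun g hg => by
    rw [Subgroup.mem_center_iff]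
    rintro ⟨y, hy⟩
    apply Subtype.ext
    show y * g.1 = g.1 * y
    rw [hK, commutator_eq] at hy
    have hgX : ∀ x ∈ comms A B, g.1 * x * g.1⁻¹ = x := fun x hx =>
      congrArg Subtype.val (Equiv.congr_fun (MonoidHom.mem_ker.mp hg) ⟨x, hx⟩)
    induction hy using Subgroup.closure_induction with
    | mem x hx => exact (mul_inv_eq_iff_eq_mul.mp (hgX x hx)).symm
    | one => simp
    | mul a b _ _ iha ihb => rw [mul_assoc, ihb, ← mul_assoc, iha, mul_assoc]
    | inv a _ iha => exact ((Commute.inv_left (iha : Commute a g.1)) :)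
  have : Finite (K ⧸ σ.ker) := Finite.of_injective _ (QuotientGroup.kerLift_injective σ)
  have hfi : FiniteIndex σ.ker := finiteIndex_of_finite_quotient
  have : FiniteIndex (center K) := finiteIndex_of_le hker
  have : Finite (commutatorSet K) := by
    refine (Set.finite_range (fun p : (K ⧸ center K) × (K ⧸ center K) => ⁅p.1.out, p.2.out⁆)).subset ?_ |>.to_subtype
    rintro _ ⟨x, y, rfl⟩
    refine ⟨(QuotientGroup.mk x, QuotientGroup.mk y), ?_⟩
    obtain ⟨⟨c, hc⟩, ex⟩ := QuotientGroup.mk_out_eq_mul (center K) x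
    obtain ⟨⟨d, hd⟩, ey⟩ := QuotientGroup.mk_out_eq_mul (center K) y
    rw [Subgroup.mem_center_iff] at hc hd
    simp only [ex, ey, commutatorElement_def]
    calc x * c * (y * d) * (x * c)⁻¹ * (y * d)⁻¹
        = x * ((c * y) * d * c⁻¹) * x⁻¹ * (d⁻¹ * y⁻¹) := by group
      _ = x * ((y * c) * d * c⁻¹) * x⁻¹ * (d⁻¹ * y⁻¹) := by rw [hc y]
      _ = x * (y * (c * d) * c⁻¹) * x⁻¹ * (d⁻¹ * y⁻¹) := by group
      _ = x * (y * (d * c) * c⁻¹) * x⁻¹ * (d⁻¹ * y⁻¹) := by rw [hc d]
      _ = x * y * (d * x⁻¹) * (d⁻¹ * y⁻¹) := by group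
      _ = x * y * (x⁻¹ * d) * (d⁻¹ * y⁻¹) := by rw [hd x⁻¹]
      _ = x * y * x⁻¹ * y⁻¹ := by group
  let L : Subgroup P := ⁅K, K⁆
  have hfinL : Finite L := by
    have e : (_root_.commutator K).map K.subtype = L := K.map_subtype_commutator
    rw [← e]
    exact Finite.of_equiv _ (Subgroup.equivMapOfInjective _ K.subtype K.subtype_injective).toEquiv
  let q := QuotientGroup.mk' L
  have hs := QuotientGroup.mk'_surjective L
  have : (A.map q).Normal := Subgroup.Normal.map inferInstance q hs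
  have : (B.map q).Normal := Subgroup.Normal.map inferInstance q hs
  have hm : ⁅A.map q, B.map q⁆ = K.map q := (map_commutator A B q).symm
  have : Finite (K.map q) := by
    rw [← hm]
    refine finite_of_abelian _ _ (finite_comms_map A B q hfin) ?_
    rw [hm]
    rintro _ ⟨x, hx, rfl⟩ _ ⟨y, hy, rfl⟩
    rw [← commutatorElement_eq_one_iff_mul_comm, ← map_commutatorElement]
    exact (QuotientGroup.eq_one_iff _).mpr (commutator_mem_commutator hx hy)
  exact finite_of_ker_finite q K L (QuotientGroup.ker_mk' _).le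

/-- Up to the commutators with subgroups of finite index, a commutator subgroup is finite. -/
theorem exists_finite_reps (A₀ B₀ : Subgroup P) [A₀.Normal] [B₀.Normal] (RA RB : Set P) (hRA : RA.Finite)
    (hRB : RB.Finite) (hA : (A : Set P) ⊆ RA * A₀) (hB : (B : Set P) ⊆ RB * B₀) (hA₀ : A₀ ≤ A) (hB₀ : B₀ ≤ B) :
    ∃ R : Set P, R.Finite ∧ R ⊆ ((⁅A, B⁆ : Subgroup P) : Set P) ∧ ((⁅A, B⁆ : Subgroup P) : Set P) ⊆ R * (⁅A₀, B⁆ ⊔ ⁅A, B₀⁆ : Subgroup P) := by
  set C := ⁅A₀, B⁆ ⊔ ⁅A, B₀⁆ with hCdef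
  let q := QuotientGroup.mk' C
  have hs := QuotientGroup.mk'_surjective C
  have : (A.map q).Normal := Subgroup.Normal.map inferInstance q hs
  have : (B.map q).Normal := Subgroup.Normal.map inferInstance q hs
  have h1 : ∀ a₀ ∈ A₀, ∀ b ∈ B, q a₀ * q b = q b * q a₀ := fun a₀ ha b hb => by
    rw [← commutatorElement_eq_one_iff_mul_comm, ← map_commutatorElement]
    exact (QuotientGroup.eq_one_iff _).mpr (mem_sup_left (commutator_mem_commutator ha hb))
  have h2 : ∀ a ∈ A, ∀ b₀ ∈ B₀, q a * q b₀ = q b₀ * q a := fun a ha b₀ hb => by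
    rw [← commutatorElement_eq_one_iff_mul_comm, ← map_commutatorElement]
    exact (QuotientGroup.eq_one_iff _).mpr (mem_sup_right (commutator_mem_commutator ha hb))
  have hfin : (comms (A.map q) (B.map q)).Finite := by
    refine ((hRA.prod hRB).image fun p => ⁅q p.1, q p.2⁆).subset ?_
    rintro _ ⟨_, ⟨a, ha, rfl⟩, _, ⟨b, hb, rfl⟩, rfl⟩
    obtain ⟨ra, hra, a₀, ha₀, rfl⟩ := hA ha
    obtain ⟨rb, hrb, b₀, hb₀, rfl⟩ := hB hb
    refine ⟨(ra, rb), ⟨hra, hrb⟩, ?_⟩
    have hraA : ra ∈ A := (mul_mem_cancel_right (hA₀ ha₀)).mp ha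
    have hrbB : rb ∈ B := (mul_mem_cancel_right (hB₀ hb₀)).mp hb
    have e1 : q a₀ * (q rb * q b₀) = (q rb * q b₀) * q a₀ := by
      rw [← map_mul]; exact h1 a₀ ha₀ _ hb
    have e2 : q ra * q b₀ = q b₀ * q ra := h2 ra hraA b₀ hb₀
    simp only [commutatorElement_def, map_mul]
    symm
    calc q ra * q a₀ * (q rb * q b₀) * (q ra * q a₀)⁻¹ * (q rb * q b₀)⁻¹
        = q ra * (q a₀ * (q rb * q b₀)) * (q a₀)⁻¹ * (q ra)⁻¹ * (q rb * q b₀)⁻¹ := by group
      _ = q ra * ((q rb * q b₀) * q a₀) * (q a₀)⁻¹ * (q ra)⁻¹ * (q rb * q b₀)⁻¹ := by rw [e1]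
      _ = q ra * q rb * (q b₀ * (q ra)⁻¹) * ((q b₀)⁻¹ * (q rb)⁻¹) := by group
      _ = q ra * q rb * ((q ra)⁻¹ * q b₀) * ((q b₀)⁻¹ * (q rb)⁻¹) := by
        rw [(((show Commute (q ra) (q b₀) from e2).inv_left).symm).eq]
      _ = q ra * q rb * (q ra)⁻¹ * (q rb)⁻¹ := by group
  have hK : Finite (⁅A.map q, B.map q⁆ : Subgroup (P ⧸ C)) := finite_commutator _ _ hfin
  rw [← map_commutator] at hK
  have hlift : ∀ y : (⁅A, B⁆).map q, ∃ x ∈ ⁅A, B⁆, q x = y.1 := fun y => y.2
  choose r hr hrq using hlift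
  refine ⟨Set.range r, Set.finite_range r, Set.range_subset_iff.mpr hr, fun x hx => ?_⟩
  refine ⟨r ⟨q x, x, hx, rfl⟩, ⟨_, rfl⟩, (r ⟨q x, x, hx, rfl⟩)⁻¹ * x, ?_, by simp⟩
  exact QuotientGroup.eq.mp (hrq ⟨q x, x, hx, rfl⟩)

end Groth.Agent.SGAGen20.Baer
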