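import Groth.Agent.SGAGen20.TopGroup
import Groth.Agent.SGAGen20.Baer
import Mathlib.Algebra.Group.Subgroup.Pointwise

/-!
# Commutators of two normal subgroups are generated in boundedly many steps
-/

namespace Groth.Agent.SGAGen20.TopGroup

open scoped Pointwise commutatorElement
open Baer (comms)

variable {P Q R : Type*} [Group P] [TopologicalSpace P] [Group Q] [TopologicalSpace Q] [Group R] [TopologicalSpace R]

/-- A separately continuous map sends products of irreducible sets to irreducible sets. -/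
theorem isIrreducible_image2 {F : Q → R → P} (hl : ∀ x, Continuous (F x)) (hr : ∀ y, Continuous (F · y))
    {A : Set Q} {B : Set R} (hA : IsIrreducible A) (hB : IsIrreducible B) : IsIrreducible (Set.image2 F A B) := by
  refine ⟨hA.1.image2 hB.1, ?_⟩
  intro U V hU hV ⟨u, hu, huU⟩ ⟨v, hv, hvV⟩
  obtain ⟨a₁, ha₁, b₁, hb₁, rfl⟩ := hu
  obtain ⟨a₂, ha₂, b₂, hb₂, rfl⟩ := hv
  obtain ⟨a, ha, haU, haV⟩ := hA.2 _ _ (hU.preimage (hr b₁)) (hV.preimage (hr b₂))
    ⟨a₁, ha₁, huU⟩ ⟨a₂, ha₂, hvV⟩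
  obtain ⟨b, hb, hbU, hbV⟩ := hB.2 _ _ (hU.preimage (hl a)) (hV.preimage (hl a))
    ⟨b₁, hb₁, haU⟩ ⟨b₂, hb₂, haV⟩
  exact ⟨F a b, ⟨a, ha, b, hb, rfl⟩, hbU, hbV⟩

/-- The component of the unit. -/
def IsSemiTop.comp1 (h : IsSemiTop Q) : Subgroup Q where
  carrier := connectedComponent 1
  one_mem' := mem_connectedComponent
  mul_mem' := fun {x y} hx hy => by
    have := (h.left x).image_connectedComponent_subset 1 ⟨y, hy, rfl⟩
    rwa [mul_one, ← connectedComponent_eq hx] at this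
  inv_mem' := fun {x} hx => by
    have := h.inv.image_connectedComponent_subset 1 ⟨x, hx, rfl⟩
    rwa [inv_one] at this

/-- The component of the unit has finite index if the space is a finite union of irreducible sets. -/
theorem IsSemiTop.exists_reps (h : IsSemiTop Q) {ι : Type*} [Finite ι] (C : ι → Set Q) (hC : ∀ j, IsIrreducible (C j))
    (hcov : ∀ x, ∃ j, x ∈ C j) : ∃ r : ι → Q, ∀ x, ∃ j, (r j)⁻¹ * x ∈ h.comp1 := by
  choose r hr using fun j => (hC j).1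
  refine ⟨r, fun x => ?_⟩
  obtain ⟨j, hj⟩ := hcov x
  refine ⟨j, ?_⟩
  have hx : x ∈ connectedComponent (r j) :=
    (hC j).isPreirreducible.isPreconnected.subset_connectedComponent (hr j) hj
  have := (h.left (r j)⁻¹).image_connectedComponent_subset (r j) ⟨x, hx, rfl⟩
  rwa [inv_mul_cancel] at this

theorem exists_bound_comms_left (hP : IsSemiTop P)
    (hmax : ∀ F : Set (Set P), F.Nonempty → (∀ W ∈ F, IsIrreducible W ∧ IsClosed W ∧ (1 : P) ∈ W) →
      ∃ W ∈ F, ∀ W' ∈ F, W ⊆ W' → W' = W)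
    {F : Q → R → P} (hl : ∀ x, Continuous (F x)) (hr : ∀ y, Continuous (F · y)) (hone : ∀ y, F 1 y = 1)
    {ι κ : Type*} [Finite ι] [Finite κ] (C : ι → Set Q) (hC : ∀ j, IsIrreducible (C j))
    (hCc : ∀ x, ∃ j, x ∈ C j) (D : κ → Set R) (hD : ∀ j, IsIrreducible (D j)) (hDc : ∀ x, ∃ j, x ∈ D j) :
    ∃ n : ℕ, (Subgroup.closure (Set.image2 F (connectedComponent 1) Set.univ) : Set P) ⊆
      closure ((Set.image2 F (connectedComponent 1) Set.univ ∪ (Set.image2 F (connectedComponent 1) Set.univ)⁻¹) ^ n) := by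
  set S := Set.image2 F (connectedComponent 1) Set.univ with hS
  have hne : Nonempty R := ⟨1⟩
  refine exists_bound hP hmax (S := S) ⟨1, mem_connectedComponent, 1, trivial, hone 1⟩ ?_
    (ι := {p : ι × κ // C p.1 ⊆ connectedComponent 1}) (fun p => Set.image2 F (C p.1.1) (D p.1.2))
    (fun p => isIrreducible_image2 hl hr (hC _) (hD _)) ?_
  · have e : S = ⋃ y, (F · y) '' connectedComponent 1 := by
      ext g
      simp only [hS, Set.mem_image2, Set.mem_iUnion, Set.mem_image, Set.mem_univ, true_and]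
      exact ⟨fun ⟨x, hx, y, h⟩ => ⟨y, x, hx, h⟩, fun ⟨y, x, hx, h⟩ => ⟨x, hx, y, h⟩⟩
    rw [e]
    exact isPreconnected_iUnion ⟨1, Set.mem_iInter.mpr fun y => ⟨1, mem_connectedComponent, hone y⟩⟩
      fun y => isPreconnected_connectedComponent.image _ (hr y).continuousOn
  · refine subset_antisymm ?_ (Set.iUnion_subset fun p => Set.image2_subset p.2 (Set.subset_univ _))
    rintro _ ⟨x, hx, y, -, rfl⟩
    obtain ⟨i, hi⟩ := hCc x
    obtain ⟨j, hj⟩ := hDc y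
    exact Set.mem_iUnion.mpr ⟨⟨(i, j), connectedComponent_eq hx ▸
      (hC i).isPreirreducible.isPreconnected.subset_connectedComponent hi⟩, x, hi, y, hj, rfl⟩

/-- The commutators of two normal subgroups, images of groups with finitely many components, generate in
boundedly many steps up to closure. -/
theorem exists_bound_comms (hP : IsSemiTop P) (hQ : IsSemiTop Q) (hR : IsSemiTop R)
    (hmax : ∀ F : Set (Set P), F.Nonempty → (∀ W ∈ F, IsIrreducible W ∧ IsClosed W ∧ (1 : P) ∈ W) →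
      ∃ W ∈ F, ∀ W' ∈ F, W ⊆ W' → W' = W)
    (α : Q →* P) (β : R →* P) (hα : Function.Injective α) (hβ : Function.Injective β)
    (hcα : ∀ g : P, ∃ c : Q → Q, Continuous c ∧ ∀ x, α (c x) = g * α x * g⁻¹)
    (hcβ : ∀ g : P, ∃ c : R → R, Continuous c ∧ ∀ x, β (c x) = g * β x * g⁻¹)
    (hl : ∀ x, Continuous fun y => ⁅α x, β y⁆) (hr : ∀ y, Continuous fun x => ⁅α x, β y⁆)
    {ι κ : Type*} [Finite ι] [Finite κ] (C : ι → Set Q) (hC : ∀ j, IsIrreducible (C j))
    (hCc : ∀ x, ∃ j, x ∈ C j) (D : κ → Set R) (hD : ∀ j, IsIrreducible (D j)) (hDc : ∀ x, ∃ j, x ∈ D j) :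
    ∃ n : ℕ, (Subgroup.closure (comms α.range β.range) : Set P) ⊆
      closure ((comms α.range β.range ∪ (comms α.range β.range)⁻¹) ^ n) := by
  set S := comms α.range β.range with hS
  set T := S ∪ S⁻¹ with hT
  have h1S : (1 : P) ∈ S := ⟨1, one_mem _, 1, one_mem _, commutatorElement_one_left 1⟩
  have hT1 : (1 : P) ∈ T := Or.inl h1S
  have hinv : ∀ p ∈ T, p⁻¹ ∈ T := fun p hp => hp.symm.imp (fun h => by simpa using h) (fun h => by simpa using h)
  let F : Q → R → P := fun x y => ⁅α x, β y⁆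
  have hFS : ∀ x y, F x y ∈ S := fun x y => ⟨_, ⟨x, rfl⟩, _, ⟨y, rfl⟩, rfl⟩
  have hAn : α.range.Normal := ⟨by
    rintro _ ⟨x, rfl⟩ g
    obtain ⟨c, -, hc⟩ := hcα g
    exact ⟨c x, hc x⟩⟩
  have hBn : β.range.Normal := ⟨by
    rintro _ ⟨x, rfl⟩ g
    obtain ⟨c, -, hc⟩ := hcβ g
    exact ⟨c x, hc x⟩⟩
  have hA₀n : (hQ.comp1.map α).Normal := ⟨by
    rintro _ ⟨x, hx, rfl⟩ g
    obtain ⟨c, hcc, hc⟩ := hcα g
    have hc1 : c 1 = 1 := hα (by simp [hc])
    refine ⟨c x, ?_, hc x⟩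
    have := hcc.image_connectedComponent_subset 1 ⟨x, hx, rfl⟩
    rwa [hc1] at this⟩
  have hB₀n : (hR.comp1.map β).Normal := ⟨by
    rintro _ ⟨x, hx, rfl⟩ g
    obtain ⟨c, hcc, hc⟩ := hcβ g
    have hc1 : c 1 = 1 := hβ (by simp [hc])
    refine ⟨c x, ?_, hc x⟩
    have := hcc.image_connectedComponent_subset 1 ⟨x, hx, rfl⟩
    rwa [hc1] at this⟩
  obtain ⟨rA, hrA⟩ := hQ.exists_reps C hC hCc
  obtain ⟨rB, hrB⟩ := hR.exists_reps D hD hDc
  obtain ⟨E, hEfin, hEsub, hEcov⟩ := Baer.exists_finite_reps α.range β.range (hQ.comp1.map α) (hR.comp1.map β)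
    (Set.range (α ∘ rA)) (Set.range (β ∘ rB)) (Set.finite_range _) (Set.finite_range _)
    (by
      rintro _ ⟨x, rfl⟩
      obtain ⟨j, hj⟩ := hrA x
      exact ⟨α (rA j), ⟨j, rfl⟩, α ((rA j)⁻¹ * x), ⟨_, hj, rfl⟩, by simp [← map_mul]⟩)
    (by
      rintro _ ⟨x, rfl⟩
      obtain ⟨j, hj⟩ := hrB x
      exact ⟨β (rB j), ⟨j, rfl⟩, β ((rB j)⁻¹ * x), ⟨_, hj, rfl⟩, by simp [← map_mul]⟩)
    (Subgroup.map_le_range α _) (Subgroup.map_le_range β _)
  obtain ⟨n₁, hn₁⟩ := exists_bound_comms_left hP hmax (F := F) hl hr (fun y => by simp [F]) C hC hCc D hD hDc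
  obtain ⟨n₂, hn₂⟩ := exists_bound_comms_left hP hmax (F := fun y x => F x y) hr hl (fun x => by simp [F]) D hD hDc C hC hCc
  have hmem : ∀ g ∈ Subgroup.closure S, ∃ m : ℕ, g ∈ T ^ m := fun g hg => by
    induction hg using Subgroup.closure_induction'' with
    | mem x hx => exact ⟨1, by rw [pow_one]; exact Or.inl hx⟩
    | inv_mem x hx => exact ⟨1, by rw [pow_one]; exact hinv x (Or.inl hx)⟩
    | one => exact ⟨0, by simp⟩
    | mul a b _ _ iha ihb =>
      obtain ⟨m, hm⟩ := iha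
      obtain ⟨m', hm'⟩ := ihb
      exact ⟨m + m', pow_add T m m' ▸ Set.mul_mem_mul hm hm'⟩
  have hEm : ∀ e : E, ∃ m : ℕ, (e : P) ∈ T ^ m := fun e =>
    hmem e (by rw [← Baer.commutator_eq]; exact hEsub e.2)
  choose m hm using hEm
  have := hEfin.fintype
  let M := Finset.univ.sup m
  have hEM : E ⊆ closure (T ^ M) := fun e he =>
    subset_closure (Set.pow_subset_pow_right hT1 (Finset.le_sup (f := m) (Finset.mem_univ ⟨e, he⟩)) (hm ⟨e, he⟩))
  refine ⟨M + (n₁ + n₂), fun g hg => ?_⟩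
  rw [← Baer.commutator_eq] at hg
  obtain ⟨e, he, z, hz, rfl⟩ := hEcov hg
  rw [Subgroup.normal_mul] at hz
  obtain ⟨z₁, hz₁, z₂, hz₂, rfl⟩ := hz
  have hmono : ∀ (S' : Set P) (n : ℕ), S' ⊆ T → closure ((S' ∪ S'⁻¹) ^ n) ⊆ closure (T ^ n) := fun S' n hS' =>
    closure_mono (Set.pow_subset_pow_left (Set.union_subset hS' fun p hp => by simpa using hinv _ (hS' hp)))
  have hz₁' : z₁ ∈ closure (T ^ n₁) := by
    refine hmono _ _ ?_ (hn₁ ?_)
    · rintro _ ⟨x, -, y, -, rfl⟩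
      exact Or.inl (hFS x y)
    · rw [SetLike.mem_coe, Baer.commutator_eq] at hz₁
      refine Subgroup.closure_mono ?_ hz₁
      rintro _ ⟨_, ⟨x, hx, rfl⟩, _, ⟨y, rfl⟩, rfl⟩
      exact ⟨x, hx, y, trivial, rfl⟩
  have hz₂' : z₂ ∈ closure (T ^ n₂) := by
    refine hmono _ _ ?_ (hn₂ ?_)
    · rintro _ ⟨y, -, x, -, rfl⟩
      exact Or.inl (hFS x y)
    · rw [SetLike.mem_coe, Baer.commutator_eq] at hz₂
      refine Subgroup.closure_mono ?_ hz₂
      rintro _ ⟨_, ⟨x, rfl⟩, _, ⟨y, hy, rfl⟩, rfl⟩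
      exact ⟨y, hy, x, trivial, rfl⟩
  have h12 : z₁ * z₂ ∈ closure (T ^ (n₁ + n₂)) := by
    rw [pow_add]
    exact hP.closure_mul_closure_subset _ _ ⟨z₁, hz₁', z₂, hz₂', rfl⟩
  rw [pow_add]
  exact hP.closure_mul_closure_subset _ _ ⟨e, hEM he, z₁ * z₂, h12, rfl⟩

/-- Powers of a preconnected set through the unit are preconnected. -/
theorem IsSemiTop.isPreconnected_pow (h : IsSemiTop P) {T : Set P} (h1 : (1 : P) ∈ T) (hT : IsPreconnected T) :
    ∀ n : ℕ, IsPreconnected (T ^ n)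
  | 0 => by rw [pow_zero]; exact isPreconnected_singleton
  | n + 1 => by
    have ih := h.isPreconnected_pow h1 hT n
    rw [pow_succ]
    have e : T ^ n * T = ⋃ t : T, T ∪ (· * (t : P)) '' T ^ n := by
      refine subset_antisymm ?_ (Set.iUnion_subset fun t => Set.union_subset ?_ ?_)
      · rintro _ ⟨a, ha, b, hb, rfl⟩
        exact Set.mem_iUnion.mpr ⟨⟨b, hb⟩, Or.inr ⟨a, ha, rfl⟩⟩
      · exact fun b hb => ⟨1, Set.one_mem_pow h1, b, hb, one_mul b⟩
      · rintro _ ⟨a, ha, rfl⟩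
        exact ⟨a, ha, t, t.2, rfl⟩
    rw [e]
    refine isPreconnected_iUnion ⟨1, Set.mem_iInter.mpr fun t => Or.inl h1⟩ fun t => ?_
    exact hT.union' ⟨t, t.2, 1, Set.one_mem_pow h1, one_mul _⟩ (ih.image _ (h.right t).continuousOn)

end Groth.Agent.SGAGen20.TopGroup
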