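import Groth.Agent.SGAGen20.Commutator
import Groth.Agent.SGAGen20.WordRange
import Groth.Agent.SGAGen20.TopComm
import Groth.Agent.H23.GeomConn

/-!
# Finiteness of the commutator subgroup scheme
-/

set_option backward.isDefEq.respectTransparency false
set_option backward.isDefEq.respectTransparency.types false
set_option linter.unusedSectionVars false
set_option synthInstance.maxHeartbeats 400000

universe u

open CategoryTheory AlgebraicGeometry MonoidalCategory CartesianMonoidalCategory MonObj GrpObj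
open Groth.Agent.GrpSchLib (bc bcProj left_comp_apply)
open Groth.Agent.SGAGen20.KPoints
open scoped CategoryTheory.Obj Pointwise commutatorElement

noncomputable section

namespace Groth.Agent.SGAGen20.CommBound

variable {k : Type u} [Field k] {G A B : Over (Spec (CommRingCat.of k))} [GrpObj G] [GrpObj A] [GrpObj B]

/-- The map on rational points. -/
def ptsHom (a : A ⟶ G) [IsMonHom a] :
    (𝟙_ (Over (Spec (CommRingCat.of k))) ⟶ A) →* (𝟙_ (Over (Spec (CommRingCat.of k))) ⟶ G) :=
  MonoidHom.mk' (fun x => x ≫ a) (fun x y => MonObj.mul_comp _ _ _)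

variable (a : A ⟶ G) [IsMonHom a] (b : B ⟶ G) [IsMonHom b]

theorem lift_commHom_pts (x : 𝟙_ (Over (Spec (CommRingCat.of k))) ⟶ A) (y : 𝟙_ (Over (Spec (CommRingCat.of k))) ⟶ B) :
    lift x y ≫ commHom a b = ⁅ptsHom a x, ptsHom b y⁆ := by
  rw [lift_commHom, commutatorElement_def]
  rfl

theorem range_commHom : (Set.range fun z : 𝟙_ (Over (Spec (CommRingCat.of k))) ⟶ A ⊗ B => z ≫ commHom a b) =
    Baer.comms (ptsHom a).range (ptsHom b).range := by
  ext g
  constructor
  · rintro ⟨z, rfl⟩
    refine ⟨_, ⟨z ≫ fst A B, rfl⟩, _, ⟨z ≫ snd A B, rfl⟩, ?_⟩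
    rw [← lift_commHom_pts]
    simp
  · rintro ⟨_, ⟨x, rfl⟩, _, ⟨y, rfl⟩, rfl⟩
    exact ⟨lift x y, lift_commHom_pts a b x y⟩

theorem closure_range_eq_commutator :
    Subgroup.closure (Set.range fun z : 𝟙_ (Over (Spec (CommRingCat.of k))) ⟶ A ⊗ B => z ≫ commHom a b) =
      ⁅Subgroup.closure (Set.range fun x : 𝟙_ (Over (Spec (CommRingCat.of k))) ⟶ A => x ≫ a),
        Subgroup.closure (Set.range fun y : 𝟙_ (Over (Spec (CommRingCat.of k))) ⟶ B => y ≫ b)⁆ := by
  rw [range_commHom, ← Baer.commutator_eq]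
  congr 1
  · exact ((Subgroup.closure_eq _).symm.trans (congrArg Subgroup.closure (MonoidHom.coe_range (ptsHom a))) :)
  · exact ((Subgroup.closure_eq _).symm.trans (congrArg Subgroup.closure (MonoidHom.coe_range (ptsHom b))) :)

theorem isPreconnected_range [IsAlgClosed k] [LocallyOfFiniteType A.hom] [ConnectedSpace A.left] :
    IsPreconnected (Set.range fun z : 𝟙_ (Over (Spec (CommRingCat.of k))) ⟶ A ⊗ B => z ≫ commHom a b) := by
  have hl : ∀ y : 𝟙_ (Over (Spec (CommRingCat.of k))) ⟶ B,
      Continuous fun x : 𝟙_ (Over (Spec (CommRingCat.of k))) ⟶ A => ⁅ptsHom a x, ptsHom b y⁆ := fun y => by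
    have e : ∀ x : 𝟙_ (Over (Spec (CommRingCat.of k))) ⟶ A,
        ⁅ptsHom a x, ptsHom b y⁆ = x ≫ lift (𝟙 A) (toUnit A ≫ y) ≫ commHom a b := fun x => by
      rw [← lift_commHom_pts, ← Category.assoc, comp_lift, Category.comp_id, ← Category.assoc x, comp_toUnit,
        toUnit_unique (toUnit (𝟙_ _)) (𝟙 _), Category.id_comp]
    simp only [e]
    exact continuous_comp _
  have e : (Set.range fun z : 𝟙_ (Over (Spec (CommRingCat.of k))) ⟶ A ⊗ B => z ≫ commHom a b) =
      ⋃ y, (fun x => ⁅ptsHom a x, ptsHom b y⁆) '' Set.univ := by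
    ext g
    rw [range_commHom]
    simp [Baer.comms, eq_comm]
    aesop
  rw [e]
  exact isPreconnected_iUnion ⟨1, Set.mem_iInter.mpr fun y => ⟨1, trivial, by simp⟩⟩
    fun y => isPreconnected_univ_kpoints.image _ (hl y).continuousOn

theorem exists_cover_kpoints [IsAlgClosed k] [LocallyOfFiniteType A.hom] [QuasiCompact A.hom] :
    Finite (irreducibleComponents A.left) ∧
      (∀ Z : irreducibleComponents A.left, IsIrreducible (ev (G := A) ⁻¹' (Z : Set A.left))) ∧
      ∀ x : 𝟙_ (Over (Spec (CommRingCat.of k))) ⟶ A, ∃ Z : irreducibleComponents A.left, ev x ∈ (Z : Set A.left) := by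
  have : IsLocallyNoetherian A.left := LocallyOfFiniteType.isLocallyNoetherian A.hom
  have : CompactSpace A.left := (quasiCompact_iff_compactSpace A.hom).mp inferInstance
  have : IsNoetherian A.left := {}
  exact ⟨TopologicalSpace.NoetherianSpace.finite_irreducibleComponents.to_subtype,
    fun Z => isIrreducible_preimage Z.2.1 (isClosed_of_mem_irreducibleComponents _ Z.2),
    fun x => ⟨⟨_, irreducibleComponent_mem_irreducibleComponents (ev x)⟩, mem_irreducibleComponent⟩⟩

theorem exists_conj (hA : AlgGrp.IsNormalHom a) (g : 𝟙_ (Over (Spec (CommRingCat.of k))) ⟶ G) :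
    ∃ c : (𝟙_ (Over (Spec (CommRingCat.of k))) ⟶ A) → (𝟙_ (Over (Spec (CommRingCat.of k))) ⟶ A),
      Continuous c ∧ ∀ x, ptsHom a (c x) = g * ptsHom a x * g⁻¹ := by
  obtain ⟨n', hn'⟩ := hA A (toUnit A ≫ g) (𝟙 A)
  refine ⟨fun x => x ≫ n', continuous_comp _, fun x => ?_⟩
  show (x ≫ n') ≫ a = g * (x ≫ a) * g⁻¹
  rw [Category.assoc, ← hn', MonObj.comp_mul, MonObj.comp_mul, GrpObj.comp_inv, ← Category.assoc x, comp_toUnit,
    toUnit_unique (toUnit (𝟙_ _)) (𝟙 _), Category.id_comp, Category.id_comp]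

/-- The commutators of rational points generate in boundedly many steps up to closure. -/
theorem exists_closure_bound_comm [IsAlgClosed k] [LocallyOfFiniteType G.hom] [IsClosedImmersion a.left]
    [IsClosedImmersion b.left] [QuasiCompact B.hom]
    (hcase : (AlgGrp.IsNormalHom a ∧ AlgGrp.IsNormalHom b ∧ QuasiCompact A.hom) ∨ ConnectedSpace A.left) :
    ∃ n : ℕ, (Subgroup.closure (Set.range fun x : 𝟙_ (Over (Spec (CommRingCat.of k))) ⟶ A ⊗ B => x ≫ commHom a b) : Set _) ⊆
      closure (((Set.range fun x : 𝟙_ (Over (Spec (CommRingCat.of k))) ⟶ A ⊗ B => x ≫ commHom a b) ∪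
        (Set.range fun x : 𝟙_ (Over (Spec (CommRingCat.of k))) ⟶ A ⊗ B => x ≫ commHom a b)⁻¹) ^ n) := by
  have : LocallyOfFiniteType A.hom := by rw [← Over.w a]; infer_instance
  have : LocallyOfFiniteType B.hom := by rw [← Over.w b]; infer_instance
  have : LocallyOfFiniteType (A ⊗ B).hom := inferInstanceAs (LocallyOfFiniteType (Limits.pullback.fst A.hom B.hom ≫ A.hom))
  rcases hcase with ⟨hA, hB, hqA⟩ | hconn
  · obtain ⟨fA, hAi, hAc⟩ := exists_cover_kpoints (A := A)
    obtain ⟨fB, hBi, hBc⟩ := exists_cover_kpoints (A := B)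
    have : Mono a := (Over.forget _).mono_of_mono_map (inferInstanceAs (Mono a.left))
    have : Mono b := (Over.forget _).mono_of_mono_map (inferInstanceAs (Mono b.left))
    have hl : ∀ x : 𝟙_ (Over (Spec (CommRingCat.of k))) ⟶ A,
        Continuous fun y : 𝟙_ (Over (Spec (CommRingCat.of k))) ⟶ B => ⁅ptsHom a x, ptsHom b y⁆ := fun x => by
      have e : ∀ y : 𝟙_ (Over (Spec (CommRingCat.of k))) ⟶ B,
          lift x y ≫ commHom a b = y ≫ lift (toUnit B ≫ x) (𝟙 B) ≫ commHom a b := fun y => by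
        rw [← Category.assoc y, comp_lift, Category.comp_id, ← Category.assoc y, comp_toUnit,
          toUnit_unique (toUnit (𝟙_ _)) (𝟙 _), Category.id_comp]
      simp only [← lift_commHom_pts, e]
      exact continuous_comp _
    have hr : ∀ y : 𝟙_ (Over (Spec (CommRingCat.of k))) ⟶ B,
        Continuous fun x : 𝟙_ (Over (Spec (CommRingCat.of k))) ⟶ A => ⁅ptsHom a x, ptsHom b y⁆ := fun y => by
      have e : ∀ x : 𝟙_ (Over (Spec (CommRingCat.of k))) ⟶ A,
          lift x y ≫ commHom a b = x ≫ lift (𝟙 A) (toUnit A ≫ y) ≫ commHom a b := fun x => by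
        rw [← Category.assoc x, comp_lift, Category.comp_id, ← Category.assoc x, comp_toUnit,
          toUnit_unique (toUnit (𝟙_ _)) (𝟙 _), Category.id_comp]
      simp only [← lift_commHom_pts, e]
      exact continuous_comp _
    obtain ⟨n, hn⟩ := TopGroup.exists_bound_comms isSemiTop isSemiTop isSemiTop exists_maximal (ptsHom a) (ptsHom b)
      (fun x y h => (cancel_mono a).mp h) (fun x y h => (cancel_mono b).mp h) (exists_conj a hA) (exists_conj b hB)
      hl hr _ hAi hAc _ hBi hBc
    exact ⟨n, by rw [range_commHom]; exact hn⟩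
  · have : QuasiCompact A.hom := by
      rw [quasiCompact_iff_compactSpace, ← isCompact_univ_iff,
        ← PreconnectedSpace.connectedComponent_eq_univ (η[A].left (IsLocalRing.closedPoint k))]
      exact GrpSchLib.isCompact_connectedComponent _
    have : QuasiCompact (A ⊗ B).hom := inferInstanceAs (QuasiCompact (Limits.pullback.fst A.hom B.hom ≫ A.hom))
    exact exists_closure_bound (commHom a b) (by
      rw [range_commHom]
      exact ⟨1, one_mem _, 1, one_mem _, commutatorElement_one_left 1⟩) (isPreconnected_range a b)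

/-- A bound for generation descends along a closed subgroup. -/
theorem closure_bound_factor {X Γ : Over (Spec (CommRingCat.of k))} [GrpObj Γ] (i : Γ ⟶ G) [IsMonHom i]
    [IsClosedImmersion i.left] {f : X ⟶ G} {f₀ : X ⟶ Γ} (hf₀ : f₀ ≫ i = f) {n : ℕ}
    (hn : (Subgroup.closure (Set.range fun x : 𝟙_ (Over (Spec (CommRingCat.of k))) ⟶ X => x ≫ f) : Set _) ⊆
      closure (((Set.range fun x : 𝟙_ (Over (Spec (CommRingCat.of k))) ⟶ X => x ≫ f) ∪
        (Set.range fun x : 𝟙_ (Over (Spec (CommRingCat.of k))) ⟶ X => x ≫ f)⁻¹) ^ n)) :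
    (Subgroup.closure (Set.range fun x : 𝟙_ (Over (Spec (CommRingCat.of k))) ⟶ X => x ≫ f₀) : Set _) ⊆
      closure (((Set.range fun x : 𝟙_ (Over (Spec (CommRingCat.of k))) ⟶ X => x ≫ f₀) ∪
        (Set.range fun x : 𝟙_ (Over (Spec (CommRingCat.of k))) ⟶ X => x ≫ f₀)⁻¹) ^ n) := by
  subst hf₀
  have hS : (Set.range fun x : 𝟙_ (Over (Spec (CommRingCat.of k))) ⟶ X => x ≫ f₀ ≫ i) =
      ptsHom i '' Set.range fun x : 𝟙_ (Over (Spec (CommRingCat.of k))) ⟶ X => x ≫ f₀ := by
    rw [← Set.range_comp]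
    exact congrArg Set.range (funext fun x => (Category.assoc x f₀ i).symm)
  rw [hS, ← Set.image_inv, ← Set.image_union, ← Set.image_pow, ← MonoidHom.map_closure] at hn
  intro g hg
  have hgi : ptsHom i g ∈ closure (ptsHom i '' _) := hn ⟨g, hg, rfl⟩
  have hind : Topology.IsInducing (ptsHom i) := by
    refine Topology.IsInducing.of_comp (continuous_comp i) isInducing_ev.continuous ?_
    exact (i.left.isClosedEmbedding.isInducing.comp isInducing_ev : )
  rw [hind.closure_eq_preimage_closure_image]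
  exact hgi

section Descent

variable {K : Type u} [Field K] (φ : k →+* K)

theorem isNormalHom_bc (hA : AlgGrp.IsNormalHom a) :
    AlgGrp.IsNormalHom ((Over.pullback (Spec.map (CommRingCat.ofHom φ))).map a) := by
  let F := Over.pullback (Spec.map (CommRingCat.ofHom φ))
  obtain ⟨c, hc⟩ := hA (G ⊗ A) (fst G A) (snd G A)
  intro T g n
  refine ⟨lift g n ≫ Functor.LaxMonoidal.μ F G A ≫ F.map c, ?_⟩
  have e := congrArg (fun m => (lift g n ≫ Functor.LaxMonoidal.μ F G A) ≫ F.map m) hc
  simp only [Functor.map_mul, Functor.map_inv', Functor.map_comp, MonObj.comp_mul, GrpObj.comp_inv, Category.assoc,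
    Functor.Monoidal.μ_fst, Functor.Monoidal.μ_snd_assoc] at e
  erw [lift_fst, lift_snd_assoc] at e
  simp only [Category.assoc]
  exact e

theorem map_commHom :
    Functor.LaxMonoidal.μ (Over.pullback (Spec.map (CommRingCat.ofHom φ))) A B ≫
        (Over.pullback (Spec.map (CommRingCat.ofHom φ))).map (commHom a b) =
      commHom ((Over.pullback (Spec.map (CommRingCat.ofHom φ))).map a)
        ((Over.pullback (Spec.map (CommRingCat.ofHom φ))).map b) := by
  simp only [commHom, Functor.map_mul, Functor.map_inv', Functor.map_comp, MonObj.comp_mul, GrpObj.comp_inv,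
    Functor.Monoidal.μ_fst_assoc, Functor.Monoidal.μ_snd_assoc]

theorem range_bc : (Set.range fun z : 𝟙_ (Over (Spec (CommRingCat.of K))) ⟶ bc (A ⊗ B) φ =>
      z ≫ (Over.pullback (Spec.map (CommRingCat.ofHom φ))).map (commHom a b)) =
    Set.range fun z : 𝟙_ (Over (Spec (CommRingCat.of K))) ⟶ bc A φ ⊗ bc B φ =>
      z ≫ commHom ((Over.pullback (Spec.map (CommRingCat.ofHom φ))).map a)
        ((Over.pullback (Spec.map (CommRingCat.ofHom φ))).map b) := by
  let μ' := Functor.Monoidal.μIso (Over.pullback (Spec.map (CommRingCat.ofHom φ))) A B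
  rw [← map_commHom a b φ]
  ext g
  constructor
  · rintro ⟨z, rfl⟩
    exact ⟨z ≫ μ'.inv, by simp [μ']⟩
  · rintro ⟨z, rfl⟩
    exact ⟨z ≫ μ'.hom, by simp [μ']⟩

/-- The commutator morphism's base change generates in boundedly many steps. -/
theorem exists_closure_bound_bc [IsAlgClosed K] [LocallyOfFiniteType G.hom] [IsClosedImmersion a.left]
    [IsClosedImmersion b.left] [QuasiCompact B.hom]
    (hcase : (AlgGrp.IsNormalHom a ∧ AlgGrp.IsNormalHom b ∧ QuasiCompact A.hom) ∨ ConnectedSpace A.left) :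
    ∃ n : ℕ, (Subgroup.closure (Set.range fun z : 𝟙_ (Over (Spec (CommRingCat.of K))) ⟶ bc (A ⊗ B) φ =>
        z ≫ (Over.pullback (Spec.map (CommRingCat.ofHom φ))).map (commHom a b)) : Set _) ⊆
      closure (((Set.range fun z : 𝟙_ (Over (Spec (CommRingCat.of K))) ⟶ bc (A ⊗ B) φ =>
        z ≫ (Over.pullback (Spec.map (CommRingCat.ofHom φ))).map (commHom a b)) ∪
        (Set.range fun z : 𝟙_ (Over (Spec (CommRingCat.of K))) ⟶ bc (A ⊗ B) φ =>
        z ≫ (Over.pullback (Spec.map (CommRingCat.ofHom φ))).map (commHom a b))⁻¹) ^ n) := by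
  rw [range_bc a b φ]
  let F := Over.pullback (Spec.map (CommRingCat.ofHom φ))
  have : LocallyOfFiniteType (bc G φ).hom := inferInstanceAs (LocallyOfFiniteType (Limits.pullback.snd G.hom _))
  have : IsClosedImmersion (F.map a).left := MorphismProperty.overPullbackMap (P := @IsClosedImmersion) _ _ ‹_›
  have : IsClosedImmersion (F.map b).left := MorphismProperty.overPullbackMap (P := @IsClosedImmersion) _ _ ‹_›
  have : QuasiCompact (bc B φ).hom := inferInstanceAs (QuasiCompact (Limits.pullback.snd B.hom _))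
  refine exists_closure_bound_comm (F.map a) (F.map b) (hcase.imp (fun ⟨hA, hB, hq⟩ =>
    ⟨isNormalHom_bc a φ hA, isNormalHom_bc b φ hB, inferInstanceAs (QuasiCompact (Limits.pullback.snd A.hom _))⟩)
    fun hc => ?_)
  have : ConnectedSpace A.left := hc
  have : GeometricallyConnected A.hom := H23.GeomConn.of_point k A.hom η[A].left (Over.w η[A])
  exact GeometricallyConnected.geometrically_connectedSpace (f := A.hom) _ _ _ (.of_hasPullback _ _)

end Descent

end Groth.Agent.SGAGen20.CommBound
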