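import Mathlib.Topology.Irreducible
import Mathlib.Topology.Connected.Basic
import Mathlib.Algebra.Group.Pointwise.Set.Basic
import Mathlib.Algebra.Group.Pointwise.Set.ListOfFn
import Mathlib.Algebra.Group.Subgroup.Lattice

/-!
# Generation by connected sets in groups with continuous translations
-/

namespace Groth.Agent.SGAGen20.TopGroup

open scoped Pointwise

variable {P : Type*} [Group P] [TopologicalSpace P]

/-- Translations and inversion are continuous. -/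
structure IsSemiTop (P : Type*) [Group P] [TopologicalSpace P] : Prop where
  left : ∀ z : P, Continuous (z * ·)
  right : ∀ z : P, Continuous (· * z)
  inv : Continuous (fun z : P => z⁻¹)

theorem IsSemiTop.isClosedMap_left (h : IsSemiTop P) (z : P) : IsClosedMap (z * ·) :=
  IsClosedMap.of_inverse (h.left z⁻¹) (fun x => mul_inv_cancel_left z x) (fun x => inv_mul_cancel_left z x)

theorem IsSemiTop.closure_mul_closure_subset (h : IsSemiTop P) (A B : Set P) :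
    closure A * closure B ⊆ closure (A * B) := by
  have h1 : A * closure B ⊆ closure (A * B) := by
    rintro _ ⟨a, ha, b, hb, rfl⟩
    refine closure_mono ?_ (image_closure_subset_closure_image (h.left a) ⟨b, hb, rfl⟩)
    rintro _ ⟨b', hb', rfl⟩
    exact ⟨a, ha, b', hb', rfl⟩
  rintro _ ⟨a, ha, b, hb, rfl⟩
  refine closure_minimal ?_ isClosed_closure (image_closure_subset_closure_image (h.right b) ⟨a, ha, rfl⟩)
  rintro _ ⟨a', ha', rfl⟩
  exact h1 ⟨a', ha', b, hb, rfl⟩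

theorem IsSemiTop.isIrreducible_mul (h : IsSemiTop P) {A B : Set P} (hA : IsIrreducible A) (hB : IsIrreducible B) :
    IsIrreducible (A * B) := by
  refine ⟨hA.1.mul hB.1, ?_⟩
  intro U V hU hV ⟨u, hu, huU⟩ ⟨v, hv, hvV⟩
  obtain ⟨a₁, ha₁, b₁, hb₁, rfl⟩ := hu
  obtain ⟨a₂, ha₂, b₂, hb₂, rfl⟩ := hv
  obtain ⟨a, ha, haU, haV⟩ := hA.2 _ _ (hU.preimage (h.right b₁)) (hV.preimage (h.right b₂))
    ⟨a₁, ha₁, huU⟩ ⟨a₂, ha₂, hvV⟩
  obtain ⟨b, hb, hbU, hbV⟩ := hB.2 _ _ (hU.preimage (h.left a)) (hV.preimage (h.left a))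
    ⟨b₁, hb₁, haU⟩ ⟨b₂, hb₂, haV⟩
  exact ⟨a * b, ⟨a, ha, b, hb, rfl⟩, hbU, hbV⟩

/-- A connected finite union of irreducible sets through the unit generates, up to closure, in boundedly
many steps. -/
theorem exists_bound (h : IsSemiTop P)
    (hmax : ∀ F : Set (Set P), F.Nonempty → (∀ W ∈ F, IsIrreducible W ∧ IsClosed W ∧ (1 : P) ∈ W) →
      ∃ W ∈ F, ∀ W' ∈ F, W ⊆ W' → W' = W)
    {S : Set P} (h1 : (1 : P) ∈ S) (hS : IsPreconnected S) {ι : Type*} [Finite ι] (C : ι → Set P)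
    (hC : ∀ j, IsIrreducible (C j)) (hSC : S = ⋃ j, C j) :
    ∃ n : ℕ, (Subgroup.closure S : Set P) ⊆ closure ((S ∪ S⁻¹) ^ n) := by
  set T := S ∪ S⁻¹ with hT
  have hT1 : (1 : P) ∈ T := Or.inl h1
  have hTinv : T⁻¹ = T := by rw [hT, Set.union_inv, inv_inv, Set.union_comm]
  have hmono : ∀ {n m : ℕ}, n ≤ m → T ^ n ⊆ T ^ m := fun {n m} hnm => Set.pow_subset_pow_right hT1 hnm
  let F : Set (Set P) := {W | IsIrreducible W ∧ IsClosed W ∧ (1 : P) ∈ W ∧ ∃ n : ℕ, W ⊆ closure (T ^ n)}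
  obtain ⟨W, ⟨hWi, hWc, hW1, n, hWn⟩, hWmax⟩ := hmax F
    ⟨closure {1}, isIrreducible_singleton.closure, isClosed_closure, subset_closure rfl, 0,
      closure_mono (by simp)⟩ fun W hW => ⟨hW.1, hW.2.1, hW.2.2.1⟩
  have habs : ∀ A : Set P, IsIrreducible A → (1 : P) ∈ A → (∃ m : ℕ, A ⊆ closure (T ^ m)) → W * A ⊆ W := by
    intro A hA hA1 ⟨m, hAm⟩
    have hF : closure (W * A) ∈ F := by
      refine ⟨(h.isIrreducible_mul hWi hA).closure, isClosed_closure,
        subset_closure ⟨1, hW1, 1, hA1, one_mul 1⟩, n + m, ?_⟩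
      refine closure_minimal ?_ isClosed_closure
      refine (Set.mul_subset_mul hWn hAm).trans ((h.closure_mul_closure_subset _ _).trans ?_)
      rw [← pow_add]
    have hsub : W ⊆ closure (W * A) := fun w hw => subset_closure ⟨w, hw, 1, hA1, mul_one w⟩
    exact subset_closure.trans (hWmax _ hF hsub).subset
  have hWW : W * W ⊆ W := habs W hWi hW1 ⟨n, hWn⟩
  have hWinv : W * W⁻¹ ⊆ W := by
    refine habs W⁻¹ ?_ (by simpa using hW1) ⟨n, ?_⟩
    · rw [← Set.image_inv_eq_inv]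
      exact hWi.image _ h.inv.continuousOn
    · intro w hw
      have := image_closure_subset_closure_image h.inv ⟨w⁻¹, hWn hw, rfl⟩
      rw [Set.image_inv_eq_inv, ← inv_pow, hTinv] at this
      simpa using this
  let H : Subgroup P :=
    { carrier := W
      one_mem' := hW1
      mul_mem' := fun {a b} ha hb => hWW ⟨a, ha, b, hb, rfl⟩
      inv_mem' := fun {a} ha => hWinv ⟨1, hW1, a⁻¹, by simpa using ha, one_mul _⟩ }
  have hc : ∀ j, ∃ c : P, C j ⊆ (c * ·) '' W := fun j => by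
    obtain ⟨c, hcj⟩ := (hC j).1
    refine ⟨c, fun x hx => ⟨c⁻¹ * x, ?_, mul_inv_cancel_left c x⟩⟩
    refine habs ((c⁻¹ * ·) '' C j) ((hC j).image _ (h.left _).continuousOn) ⟨c, hcj, inv_mul_cancel c⟩ ⟨2, ?_⟩
      ⟨1, hW1, c⁻¹ * x, ⟨x, hx, rfl⟩, one_mul _⟩
    rintro _ ⟨y, hy, rfl⟩
    refine subset_closure ?_
    rw [pow_two]
    exact ⟨c⁻¹, Or.inr (by simpa [hSC] using ⟨j, hcj⟩), y, Or.inl (hSC ▸ Set.mem_iUnion.mpr ⟨j, hy⟩), rfl⟩
  choose c hc using hc
  have hSW : S ⊆ W := by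
    intro s hs
    by_contra hsW
    let V : Set P := ⋃ j : {j : ι // c j ∉ H}, (c j.1 * ·) '' W
    have hV : IsClosed V := isClosed_iUnion_of_finite fun j => h.isClosedMap_left _ _ hWc
    have hcov : S ⊆ W ∪ V := fun x hx => by
      obtain ⟨j, hj⟩ := Set.mem_iUnion.mp (hSC ▸ hx)
      obtain ⟨w, hw, rfl⟩ := hc j hj
      by_cases hcj : c j ∈ H
      · exact Or.inl (H.mul_mem hcj hw)
      · exact Or.inr (Set.mem_iUnion.mpr ⟨⟨j, hcj⟩, w, hw, rfl⟩)
    have hsV : s ∈ V := (hcov hs).resolve_left hsW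
    obtain ⟨y, -, hyW, hyV⟩ := isPreconnected_closed_iff.mp hS W V hWc hV hcov ⟨1, h1, hW1⟩ ⟨s, hs, hsV⟩
    obtain ⟨⟨j, hj⟩, w, hw, rfl⟩ := Set.mem_iUnion.mp hyV
    exact hj ((H.mul_mem_cancel_right hw).mp hyW)
  exact ⟨n, fun g hg => hWn ((Subgroup.closure_le H).mpr hSW hg)⟩

end Groth.Agent.SGAGen20.TopGroup
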