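import Groth.Agent.SGAGen20.Points
import Groth.Agent.SGAGen20.TopGroup
import Groth.Agent.GrpSchLib.FieldDim

/-!
# The group of rational points with the induced topology
-/

set_option backward.isDefEq.respectTransparency false
set_option backward.isDefEq.respectTransparency.types false
set_option linter.unusedSectionVars false

universe u

open CategoryTheory AlgebraicGeometry MonoidalCategory CartesianMonoidalCategory MonObj GrpObj
open Groth.Agent.GrpSchLib (IsMaxPt exists_isMaxPt)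
open scoped CategoryTheory.Obj

noncomputable section

namespace Groth.Agent.SGAGen20.KPoints

variable {k : Type u} [Field k] {G X : Over (Spec (CommRingCat.of k))}

/-- The underlying point of a rational point. -/
abbrev ev (g : 𝟙_ (Over (Spec (CommRingCat.of k))) ⟶ G) : G.left := g.left (IsLocalRing.closedPoint k)

/-- Rational points carry the induced topology. -/
scoped instance instTopKPt : TopologicalSpace (𝟙_ (Over (Spec (CommRingCat.of k))) ⟶ G) :=
  TopologicalSpace.induced ev inferInstance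

theorem isInducing_ev : Topology.IsInducing (ev (G := G)) := ⟨rfl⟩

theorem continuous_comp (f : X ⟶ G) : Continuous fun x : 𝟙_ (Over (Spec (CommRingCat.of k))) ⟶ X => x ≫ f :=
  isInducing_ev.continuous_iff.mpr (f.left.continuous.comp isInducing_ev.continuous)

theorem isSemiTop [GrpObj G] : TopGroup.IsSemiTop (𝟙_ (Over (Spec (CommRingCat.of k))) ⟶ G) where
  left z := by
    have : (fun g => z * g) = fun g => g ≫ ((toUnit G ≫ z) * 𝟙 G) := by
      funext g
      simp [MonObj.comp_mul]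
    rw [this]
    exact continuous_comp _
  right z := by
    have : (fun g => g * z) = fun g => g ≫ (𝟙 G * (toUnit G ≫ z)) := by
      funext g
      simp [MonObj.comp_mul]
    rw [this]
    exact continuous_comp _
  inv := by
    have : (fun g : 𝟙_ (Over (Spec (CommRingCat.of k))) ⟶ G => g⁻¹) = fun g => g ≫ GrpObj.inv :=
      funext fun g => Hom.inv_def g
    rw [this]
    exact continuous_comp _

variable [IsAlgClosed k] [LocallyOfFiniteType G.hom]

theorem exists_ev_mem {U Z : Set G.left} (hU : IsOpen U) (hZ : IsClosed Z) (hne : (Z ∩ U).Nonempty) :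
    ∃ g, ev g ∈ Z ∩ U := by
  have := LocallyOfFiniteType.jacobsonSpace G.hom
  obtain ⟨y, hy, hyc⟩ := nonempty_inter_closedPoints (X := G.left) (Z := Z ∩ U) hne
    (hZ.isLocallyClosed.inter hU.isLocallyClosed)
  obtain ⟨g, hg⟩ := exists_point_of_closed hyc
  exact ⟨g, (show ev g = y from hg).symm ▸ hy⟩

theorem subset_closure_image {Z : Set G.left} (hZ : IsClosed Z) : Z ⊆ closure (ev '' (ev ⁻¹' Z)) := fun y hy =>
  mem_closure_iff.mpr fun U hU hyU => by
    obtain ⟨g, hgZ, hgU⟩ := exists_ev_mem hU hZ ⟨y, hy, hyU⟩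
    exact ⟨ev g, hgU, g, hgZ, rfl⟩

theorem isIrreducible_preimage {Z : Set G.left} (hZ : IsIrreducible Z) (hZc : IsClosed Z) :
    IsIrreducible (ev ⁻¹' Z) := by
  refine ⟨?_, ?_⟩
  · obtain ⟨g, hg, -⟩ := exists_ev_mem isOpen_univ hZc (by simpa using hZ.1)
    exact ⟨g, hg⟩
  · intro U V hU hV ⟨a, ha, haU⟩ ⟨b, hb, hbV⟩
    obtain ⟨U₀, hU₀, rfl⟩ := isInducing_ev.isOpen_iff.mp hU
    obtain ⟨V₀, hV₀, rfl⟩ := isInducing_ev.isOpen_iff.mp hV
    obtain ⟨g, hg, hgU, hgV⟩ := exists_ev_mem (hU₀.inter hV₀) hZc (hZ.2 _ _ hU₀ hV₀ ⟨_, ha, haU⟩ ⟨_, hb, hbV⟩)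
    exact ⟨g, hg, hgU, hgV⟩

theorem isPreconnected_univ_kpoints [ConnectedSpace G.left] :
    IsPreconnected (Set.univ : Set (𝟙_ (Over (Spec (CommRingCat.of k))) ⟶ G)) := by
  refine isPreconnected_closed_iff.mpr fun U V hU hV hcov ⟨a, _, ha⟩ ⟨b, _, hb⟩ => ?_
  have hsurj : (Set.univ : Set G.left) ⊆ closure (ev '' U) ∪ closure (ev '' V) := by
    rw [← closure_union, ← Set.image_union]
    refine (subset_closure_image isClosed_univ).trans (closure_mono (Set.image_mono ?_))
    exact fun g _ => hcov trivial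
  obtain ⟨y, -, hy⟩ := isPreconnected_closed_iff.mp isPreconnected_univ _ _ isClosed_closure isClosed_closure hsurj
    ⟨_, trivial, subset_closure ⟨a, ha, rfl⟩⟩ ⟨_, trivial, subset_closure ⟨b, hb, rfl⟩⟩
  obtain ⟨g, ⟨hgU, hgV⟩, -⟩ := exists_ev_mem isOpen_univ (isClosed_closure.inter isClosed_closure)
    (Z := closure (ev '' U) ∩ closure (ev '' V)) ⟨y, hy, trivial⟩
  refine ⟨g, trivial, ?_, ?_⟩
  · rw [← hU.closure_eq, isInducing_ev.closure_eq_preimage_closure_image]; exact hgU
  · rw [← hV.closure_eq, isInducing_ev.closure_eq_preimage_closure_image]; exact hgV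

/-- Families of irreducible closed sets through the unit have maximal members. -/
theorem exists_maximal [GrpObj G] (F : Set (Set (𝟙_ (Over (Spec (CommRingCat.of k))) ⟶ G))) (hne : F.Nonempty)
    (hF : ∀ W ∈ F, IsIrreducible W ∧ IsClosed W ∧ (1 : 𝟙_ (Over (Spec (CommRingCat.of k))) ⟶ G) ∈ W) :
    ∃ W ∈ F, ∀ W' ∈ F, W ⊆ W' → W' = W := by
  obtain ⟨d, hd⟩ := GrpSchLib.exists_height_isMaxPt G
  have hgen : ∀ W ∈ F, ∃ ξ, IsGenericPoint ξ (closure (ev '' W)) := fun W hW => by
    have h : IsIrreducible (closure (ev '' W)) :=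
      ((hF W hW).1.image _ isInducing_ev.continuous.continuousOn).closure
    exact ⟨_, h.isGenericPoint_genericPoint isClosed_closure⟩
  choose ξ hξ using hgen
  let D : Set ℕ := {n | ∃ (W : _) (hW : W ∈ F), n = VarDim.deg G.hom (ξ W hW)}
  have hDle : ∀ n ∈ D, n ≤ d := by
    rintro _ ⟨W, hW, rfl⟩
    obtain ⟨g, hg, hgx⟩ := exists_isMaxPt (ξ W hW)
    exact hd g hg ▸ VarDim.deg_le_of_specializes G.hom hgx
  obtain ⟨W₀, hW₀⟩ := hne
  obtain ⟨N, ⟨W, hW, hN⟩, hmax⟩ := ((Set.finite_Iic d).subset hDle).exists_maximal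
    ⟨_, W₀, hW₀, rfl⟩
  refine ⟨W, hW, fun W' hW' hsub => ?_⟩
  have hspec : ξ W' hW' ⤳ ξ W hW :=
    (hξ W' hW').specializes (closure_mono (Set.image_mono hsub) (hξ W hW).mem)
  have heq : ξ W' hW' = ξ W hW := by
    by_contra hne'
    have hlt : VarDim.deg G.hom (ξ W hW) < VarDim.deg G.hom (ξ W' hW') :=
      VarDim.deg_strictMono G.hom (lt_iff_le_not_ge.2 ⟨hspec, fun h => hne' (hspec.antisymm h).eq⟩)
    have := hmax (y := VarDim.deg G.hom (ξ W' hW')) ⟨W', hW', rfl⟩ (by omega)
    omega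
  have hcl : closure (ev '' W') = closure (ev '' W) := by
    rw [← (hξ W' hW').def, heq, (hξ W hW).def]
  rw [← (hF W' hW').2.1.closure_eq, ← (hF W hW).2.1.closure_eq, isInducing_ev.closure_eq_preimage_closure_image,
    hcl, ← isInducing_ev.closure_eq_preimage_closure_image]

end Groth.Agent.SGAGen20.KPoints
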