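import Groth.Agent.GrpSchLib.DenseRed
import Mathlib.AlgebraicGeometry.Geometrically.Reduced
import Mathlib.AlgebraicGeometry.Morphisms.UniversallyOpen
import Mathlib.LinearAlgebra.Basis.VectorSpace
import Mathlib.LinearAlgebra.TensorProduct.Basis

/-!
# Products of reduced schemes over a field and dense families
-/

set_option backward.isDefEq.respectTransparency false
set_option backward.isDefEq.respectTransparency.types false

universe u

open CategoryTheory AlgebraicGeometry Limits TensorProduct

noncomputable section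

namespace Groth.Agent.SGAGen20

variable {k : Type u} [Field k]

/-- A tensor whose coefficients are killed by a separating family of maps is zero. -/
theorem eq_zero_of_forall_map {A B : Type u} [CommRing A] [Algebra k A] [CommRing B] [Algebra k B] {J : Type*}
    {C : J → Type u} [∀ j, CommRing (C j)] [∀ j, Algebra k (C j)] (ψ : ∀ j, A →ₐ[k] C j)
    (hψ : ∀ a, (∀ j, ψ j a = 0) → a = 0) (z : A ⊗[k] B)
    (h : ∀ j, Algebra.TensorProduct.map (ψ j) (AlgHom.id k B) z = 0) : z = 0 := by
  classical
  let b := Module.Basis.ofVectorSpace k B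
  apply (TensorProduct.equivFinsuppOfBasisRight b).injective
  ext i
  rw [map_zero, Finsupp.zero_apply]
  refine hψ _ fun j => ?_
  have key : ∀ w : A ⊗[k] B,
      TensorProduct.equivFinsuppOfBasisRight b (Algebra.TensorProduct.map (ψ j) (AlgHom.id k B) w) i =
        ψ j (TensorProduct.equivFinsuppOfBasisRight b w i) := by
    intro w
    induction w using TensorProduct.induction_on with
    | zero => simp
    | tmul x y => simp [map_smul]
    | add p q hp hq => simp only [map_add, Finsupp.add_apply, hp, hq]
  rw [← key, h j, map_zero, Finsupp.zero_apply]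

variable {P Y : Scheme.{u}} {f : P ⟶ Spec (CommRingCat.of k)} {g : Y ⟶ Spec (CommRingCat.of k)}
  [IsReduced P] [IsReduced Y]

/-- If a dense family has reduced products with `Y`, then so does the target. -/
theorem isReduced_pullback_of_dense {J : Type*} (W : J → Scheme.{u}) (w : ∀ j, W j ⟶ P)
    (hd : ∀ U : P.Opens, (U : Set P).Nonempty → ∃ j x, w j x ∈ U)
    (hW : ∀ j, IsReduced (pullback (w j ≫ f) g)) : IsReduced (pullback f g) := by
  refine @isReduced_of_isReduced_stalk _ fun p => ?_
  obtain ⟨A, B, _, _, _, _, jA, jB, v, _, _, _, ⟨p, rfl⟩, hA, hB, -, -⟩ :=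
    GrpSchLib.DenseRed.exists_chart (f := f) (g := g) p
  have : IsReduced (Spec (CommRingCat.of A)) := isReduced_of_isOpenImmersion jA
  have : _root_.IsReduced A := (affine_isReduced_iff (CommRingCat.of A)).mp inferInstance
  suffices _root_.IsReduced (A ⊗[k] B) from
    isReduced_of_injective (asIso (v.stalkMap p)).commRingCatIsoToRingEquiv (RingEquiv.injective _)
  let J' := {t : Σ (j : J) (C : CommRingCat.{u}), ((Spec C ⟶ W j) × (CommRingCat.of A ⟶ C)) //
    IsOpenImmersion t.2.2.1 ∧ t.2.2.1 ≫ w t.1 = Spec.map t.2.2.2 ≫ jA}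
  let alg : ∀ t : J', Algebra k t.1.2.1 := fun t =>
    (t.1.2.2.2.hom.comp (algebraMap k A)).toAlgebra
  let ψ : ∀ t : J', A →ₐ[k] t.1.2.1 := fun t => ⟨t.1.2.2.2.hom, fun _ => rfl⟩
  refine ⟨fun z hz => eq_zero_of_forall_map ψ (fun a ha => ?_) z fun t => ?_⟩
  · by_contra hne
    obtain ⟨x, hx⟩ : ((PrimeSpectrum.basicOpen a : TopologicalSpace.Opens (PrimeSpectrum A)) :
        Set (PrimeSpectrum A)).Nonempty := by
      rw [Set.nonempty_iff_ne_empty]
      intro he
      exact hne (IsReduced.eq_zero a (PrimeSpectrum.basicOpen_eq_bot_iff a |>.mp (TopologicalSpace.Opens.ext he)))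
    obtain ⟨j, q, y, hy, hyq⟩ := hd (jA ''ᵁ (PrimeSpectrum.basicOpen a)) ⟨jA x, x, hx, rfl⟩
    obtain ⟨U, hU, hqU, hUle⟩ := exists_isAffineOpen_mem_and_subset
      (U := (w j) ⁻¹ᵁ (jA ''ᵁ (PrimeSpectrum.basicOpen a))) (x := q) ⟨y, hy, hyq⟩
    have hr : Set.range (hU.fromSpec ≫ w j) ⊆ Set.range jA := by
      rintro _ ⟨s, rfl⟩
      obtain ⟨y', -, hy'⟩ := hUle (hU.range_fromSpec.subset ⟨s, rfl⟩)
      exact ⟨y', hy'⟩
    obtain ⟨φ, hφ⟩ := Spec.map_surjective (IsOpenImmersion.lift jA (hU.fromSpec ≫ w j) hr)
    have hfac : hU.fromSpec ≫ w j = Spec.map φ ≫ jA := by rw [hφ, IsOpenImmersion.lift_fac]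
    have h0 : φ.hom a = 0 := ha ⟨⟨j, Γ(W j, U), hU.fromSpec, φ⟩, inferInstance, hfac⟩
    obtain ⟨s, hs⟩ : q ∈ Set.range hU.fromSpec := hU.range_fromSpec.symm ▸ hqU
    have hys : Spec.map φ s = y := by
      apply jA.isOpenEmbedding.injective
      rw [← Scheme.Hom.comp_apply, ← hfac, Scheme.Hom.comp_apply, hs]
      exact hyq.symm
    rw [← hys] at hy
    exact hy (show φ.hom a ∈ s.asIdeal by rw [h0]; exact Ideal.zero_mem _)
  · obtain ⟨⟨j, C, u, φ⟩, hu, hfac⟩ := t
    let : Algebra k C := (φ.hom.comp (algebraMap k A)).toAlgebra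
    have e1 : u ≫ w j ≫ f = Spec.map (CommRingCat.ofHom (algebraMap k C)) := by
      rw [← Category.assoc, hfac, Category.assoc, hA, ← Spec.map_comp]
      rfl
    let m := pullback.map (Spec.map (CommRingCat.ofHom (algebraMap k C))) (Spec.map (CommRingCat.ofHom (algebraMap k B)))
      (w j ≫ f) g u jB (𝟙 _) (by rw [Category.comp_id]; exact e1.symm) (by rw [Category.comp_id]; exact hB.symm)
    have : IsOpenImmersion m := inferInstance
    have := hW j
    have : IsReduced (Spec (CommRingCat.of (C ⊗[k] B))) := isReduced_of_isOpenImmersion ((pullbackSpecIso k C B).inv ≫ m)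
    have : _root_.IsReduced (C ⊗[k] B) := (affine_isReduced_iff (CommRingCat.of (C ⊗[k] B))).mp inferInstance
    exact (hz.map _).eq_zero

/-- A product of a geometrically reduced and a reduced scheme over a field is reduced. -/
theorem isReduced_pullback_of_geometricallyReduced {X : Scheme.{u}} (h : X ⟶ Spec (CommRingCat.of k))
    [GeometricallyReduced h] [IsReduced X] : IsReduced (pullback f h) := by
  refine isReduced_pullback_of_dense (fun y : P => Spec (P.residueField y)) (fun y => P.fromSpecResidueField y)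
    (fun U ⟨y, hy⟩ => ⟨y, IsLocalRing.closedPoint _, by rwa [Scheme.fromSpecResidueField_apply]⟩) fun y => ?_
  exact GeometricallyReduced.geometrically_isReduced (f := h) _ _ _
    ((IsPullback.of_hasPullback (P.fromSpecResidueField y ≫ f) h).flip)

omit [IsReduced Y]

theorem isReduced_of_geometricallyReduced {X : Scheme.{u}} (h : X ⟶ Spec (CommRingCat.of k)) [GeometricallyReduced h] :
    IsReduced X :=
  GeometricallyReduced.geometrically_isReduced (f := h) (K := k) (𝟙 _) (𝟙 X) h
    (IsPullback.of_horiz_isIso ⟨by simp⟩)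

/-- A reduced scheme with a dense family of geometrically reduced schemes is geometrically reduced. -/
theorem geometricallyReduced_of_dense {J : Type*} (W : J → Scheme.{u}) (w : ∀ j, W j ⟶ P)
    (hd : ∀ U : P.Opens, (U : Set P).Nonempty → ∃ j x, w j x ∈ U)
    (hW : ∀ j, GeometricallyReduced (w j ≫ f)) : GeometricallyReduced f := by
  refine ⟨fun K _ q T a b hsq => ?_⟩
  have : IsReduced (pullback f q) := isReduced_pullback_of_dense W w hd fun j =>
    (hW j).geometrically_isReduced _ _ _ (.of_hasPullback _ _)
  exact isReduced_of_isOpenImmersion hsq.isoPullback.hom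

omit [IsReduced P]

theorem geometricallyReduced_comp {X : Scheme.{u}} (h : X ⟶ Spec (CommRingCat.of k)) (f : P ⟶ Spec (CommRingCat.of k))
    [GeometricallyReduced h] [GeometricallyReduced f] : GeometricallyReduced (pullback.fst f h ≫ f) := by
  have := isReduced_of_geometricallyReduced h
  refine ⟨fun K _ q T a b hsq => ?_⟩
  have : IsReduced (pullback f q) :=
    GeometricallyReduced.geometrically_isReduced (f := f) _ _ _ (.of_hasPullback _ _)
  have : IsReduced (pullback (pullback.fst f q ≫ f) h) := isReduced_pullback_of_geometricallyReduced h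
  have e := ((IsPullback.of_hasPullback (pullback.fst f h) (pullback.fst f q)).paste_vert (IsPullback.of_hasPullback f q))
  have e' := (IsPullback.of_hasPullback (pullback.fst f h) (pullback.fst f q)).flip.paste_vert (IsPullback.of_hasPullback f h)
  have : IsReduced (pullback (pullback.fst f h) (pullback.fst f q)) := isReduced_of_isOpenImmersion e'.isoPullback.hom
  exact isReduced_of_isOpenImmersion (hsq.isoPullback ≪≫ e.isoPullback.symm).hom

/-- A flat preimmersion into a reduced scheme has reduced source. -/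
theorem isReduced_of_flat_preimmersion {T : Scheme.{u}} (i : T ⟶ Y) [IsReduced Y] [Flat i] [IsPreimmersion i] :
    IsReduced T := by
  refine @isReduced_of_isReduced_stalk _ fun x => ?_
  have hs : Function.Surjective (i.stalkMap x).hom := i.stalkMap_surjective x
  algebraize [(i.stalkMap x).hom]
  have : IsLocalHom (algebraMap (Y.presheaf.stalk (i x)) (T.presheaf.stalk x)) := i.toLRSHom.prop x
  have : Module.Flat (Y.presheaf.stalk (i x)) (T.presheaf.stalk x) := Flat.stalkMap i x
  have : Module.FaithfullyFlat (Y.presheaf.stalk (i x)) (T.presheaf.stalk x) :=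
    Module.FaithfullyFlat.of_flat_of_isLocalHom
  have hi : Function.Injective (i.stalkMap x).hom :=
    FaithfulSMul.algebraMap_injective (Y.presheaf.stalk (i x)) (T.presheaf.stalk x)
  exact isReduced_of_injective (RingEquiv.ofBijective _ ⟨hi, hs⟩).symm (RingEquiv.injective _)

end Groth.Agent.SGAGen20
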