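import Groth.Agent.SGAGen20.KPoints
import Groth.Agent.SGAHom20.Dominant
import Mathlib.AlgebraicGeometry.Geometrically.Connected
import Mathlib.Algebra.Group.Pointwise.Set.ListOfFn

/-!
# Words of bounded length cover the generated group
-/

set_option backward.isDefEq.respectTransparency false
set_option backward.isDefEq.respectTransparency.types false
set_option linter.unusedSectionVars false
set_option synthInstance.maxHeartbeats 400000

universe u

open CategoryTheory AlgebraicGeometry MonoidalCategory CartesianMonoidalCategory MonObj GrpObj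
open Groth.Agent.GrpSchLib (IsMaxPt exists_isMaxPt bc bcProj left_comp_apply)
open Groth.Agent.SGAGen20.KPoints
open scoped CategoryTheory.Obj Pointwise

noncomputable section

namespace Groth.Agent.SGAGen20

variable {k : Type u} [Field k] {G X : Over (Spec (CommRingCat.of k))} [GrpObj G]

/-- If every maximal point is a value of some morphism of a family, every point is a product of two values. -/
theorem forall_mem_range_mul {J : Type*} (P : J → Over (Spec (CommRingCat.of k))) (f : ∀ j, P j ⟶ G)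
    (hmax : ∀ c : G.left, IsMaxPt c → ∃ j, c ∈ Set.range (f j).left) (y : G.left) :
    ∃ i j, y ∈ Set.range ((fst (P i) (P j) ≫ f i) * (snd (P i) (P j) ≫ f j)).left := by
  obtain ⟨L, _, _, φ, y', hy'⟩ := SGAHom20.exists_point y
  let F := Over.pullback (Spec.map (CommRingCat.ofHom φ))
  have hmax' : ∀ c : (bc G φ).left, IsMaxPt c → ∃ j, c ∈ Set.range (F.map (f j)).left := by
    intro c hc
    obtain ⟨j, p, hp⟩ := hmax _ (hc.map (GrpSchLib.bcProj_generalizing φ))
    obtain ⟨s, -, hs⟩ := Scheme.exists_preimage_of_isPullback (SGAHom20.isPullback_bcMap (f j) φ) p c hp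
    exact ⟨j, s, hs⟩
  obtain ⟨c, hc, -⟩ := exists_isMaxPt (η[bc G φ].left (SGAHom20.pt₀ L))
  let τ := GrpSchLib.divIso y'
  obtain ⟨j₁, g₁, hg₁⟩ := hmax' c hc
  obtain ⟨j₂, g₂, hg₂⟩ := hmax' _ (hc.map τ.hom.left.isOpenEmbedding.generalizingMap)
  let f₁ : bc (P j₁) φ ⟶ bc G φ := F.map (f j₁)
  let f₂ : bc (P j₂) φ ⟶ bc G φ := F.map (f j₂)
  obtain ⟨w, hw₁, hw₂⟩ := Scheme.Pullback.exists_preimage_pullback (f := (f₁ ≫ τ.hom).left) (g := f₂.left) g₁ g₂
    (by rw [left_comp_apply, hg₂]; exact congrArg τ.hom.left hg₁)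
  let W : Over (Spec (CommRingCat.of L)) :=
    Over.mk (Limits.pullback.fst (f₁ ≫ τ.hom).left f₂.left ≫ (bc (P j₁) φ).hom)
  let p₁ : W ⟶ bc (P j₁) φ := Over.homMk (Limits.pullback.fst (f₁ ≫ τ.hom).left f₂.left) rfl
  let p₂ : W ⟶ bc (P j₂) φ := Over.homMk (Limits.pullback.snd (f₁ ≫ τ.hom).left f₂.left) (by
    show _ = Limits.pullback.fst (f₁ ≫ τ.hom).left f₂.left ≫ (bc (P j₁) φ).hom
    conv_rhs => rw [← Over.w (f₁ ≫ τ.hom)]
    rw [Limits.pullback.condition_assoc, Over.w f₂])
  have hp : p₁ ≫ f₁ ≫ τ.hom = p₂ ≫ f₂ := Over.OverMorphism.ext Limits.pullback.condition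
  let m := (fst (P j₂) (P j₁) ≫ f j₂) * (snd (P j₂) (P j₁) ≫ f j₁)
  let u : W ⟶ bc (P j₂ ⊗ P j₁) φ := lift p₂ p₁ ≫ Functor.LaxMonoidal.μ F (P j₂) (P j₁)
  have hmul : u ≫ F.map m = (p₂ ≫ f₂) * (p₁ ≫ f₁) := by
    show (lift p₂ p₁ ≫ Functor.LaxMonoidal.μ F (P j₂) (P j₁)) ≫ F.map m = _
    rw [Category.assoc, Functor.map_mul, F.map_comp, F.map_comp,
      MonObj.comp_mul, MonObj.comp_mul, Functor.Monoidal.μ_fst_assoc, Functor.Monoidal.μ_snd_assoc,
      lift_fst_assoc, lift_snd_assoc]
  have hu : u ≫ F.map m = toUnit W ≫ y' := by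
    rw [hmul, ← hp, show τ.hom = (toUnit (bc G φ) ≫ y') * (𝟙 _)⁻¹ from rfl, MonObj.comp_mul,
      MonObj.comp_mul, GrpObj.comp_inv, GrpObj.comp_inv, Category.comp_id, ← Category.assoc f₁, comp_toUnit,
      ← Category.assoc, comp_toUnit, inv_mul_cancel_right]
  refine ⟨j₂, j₁, bcProj _ φ (u.left w), ?_⟩
  rw [← SGAHom20.bc_map_apply, ← left_comp_apply, hu, GrpSchLib.apply_pointSection]
  exact hy'

/-- `y` is the image of a point under a signed word of length `n`. -/
def UnderWord (f : X ⟶ G) (n : ℕ) (y : G.left) : Prop :=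
  ∃ (T : Over (Spec (CommRingCat.of k))) (p : T.left) (x : Fin n → (T ⟶ X)) (ε : Fin n → Bool),
    (prodWord f x ε).left p = y

theorem prodWord_append {T : Over (Spec (CommRingCat.of k))} (f : X ⟶ G) {m n : ℕ} (x : Fin m → (T ⟶ X))
    (x' : Fin n → (T ⟶ X)) (ε : Fin m → Bool) (ε' : Fin n → Bool) :
    prodWord f (Fin.append x x') (Fin.append ε ε') = prodWord f x ε * prodWord f x' ε' := by
  rw [prodWord, prodWord, prodWord, ← List.prod_append, ← List.ofFn_fin_append]
  congr 2
  funext j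
  induction j using Fin.addCases <;> simp

theorem quasiCompact_pow [QuasiCompact X.hom] : ∀ n, QuasiCompact (pow X n).hom
  | 0 => inferInstanceAs (QuasiCompact (𝟙 (Spec (CommRingCat.of k))))
  | n + 1 => by
      have := quasiCompact_pow n
      show QuasiCompact (Limits.pullback.fst X.hom (pow X n).hom ≫ X.hom)
      infer_instance

section AlgClosed

variable [IsAlgClosed k] [LocallyOfFiniteType G.hom] [LocallyOfFiniteType X.hom] [QuasiCompact X.hom] (f : X ⟶ G)

theorem locallyOfFiniteType_obj : ∀ w : Word, LocallyOfFiniteType (w.obj X).hom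
  | .one => inferInstanceAs (LocallyOfFiniteType (𝟙 (Spec (CommRingCat.of k))))
  | .gen => ‹_›
  | .inv a => locallyOfFiniteType_obj a
  | .mul a b => by
      have := locallyOfFiniteType_obj a
      have := locallyOfFiniteType_obj b
      show LocallyOfFiniteType (Limits.pullback.fst (a.obj X).hom (b.obj X).hom ≫ (a.obj X).hom)
      infer_instance

/-- The values at rational points, if they form a connected set through the unit, generate in boundedly many
steps up to closure. -/
theorem exists_closure_bound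
    (h1 : (1 : 𝟙_ (Over (Spec (CommRingCat.of k))) ⟶ G) ∈ Set.range fun x : 𝟙_ _ ⟶ X => x ≫ f)
    (hpre : IsPreconnected (Set.range fun x : 𝟙_ _ ⟶ X => x ≫ f)) :
    ∃ n : ℕ, (Subgroup.closure (Set.range fun x : 𝟙_ (Over (Spec (CommRingCat.of k))) ⟶ X => x ≫ f) : Set _) ⊆
      closure (((Set.range fun x : 𝟙_ (Over (Spec (CommRingCat.of k))) ⟶ X => x ≫ f) ∪
        (Set.range fun x : 𝟙_ (Over (Spec (CommRingCat.of k))) ⟶ X => x ≫ f)⁻¹) ^ n) := by
  have : IsLocallyNoetherian X.left := LocallyOfFiniteType.isLocallyNoetherian X.hom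
  have : CompactSpace X.left := (quasiCompact_iff_compactSpace X.hom).mp inferInstance
  have : IsNoetherian X.left := {}
  have : Finite (irreducibleComponents X.left) :=
    TopologicalSpace.NoetherianSpace.finite_irreducibleComponents.to_subtype
  exact TopGroup.exists_bound (isSemiTop (G := G)) exists_maximal h1 hpre
    (fun Z : irreducibleComponents X.left => (fun x : 𝟙_ _ ⟶ X => x ≫ f) '' (ev ⁻¹' (Z : Set X.left)))
    (fun Z => (isIrreducible_preimage Z.2.1 (isClosed_of_mem_irreducibleComponents _ Z.2)).image _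
      (continuous_comp f).continuousOn)
    (by
      ext g
      constructor
      · rintro ⟨x, rfl⟩
        exact Set.mem_iUnion.mpr ⟨⟨irreducibleComponent (ev x), irreducibleComponent_mem_irreducibleComponents _⟩,
          x, mem_irreducibleComponent, rfl⟩
      · rintro hg
        obtain ⟨Z, x, -, rfl⟩ := Set.mem_iUnion.mp hg
        exact ⟨x, rfl⟩)

/-- Over an algebraically closed field, if the values at rational points generate in boundedly many steps up
to closure and words are dense, then words of some fixed length reach every maximal point. -/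
theorem exists_maxPt_bound {n : ℕ}
    (hn : (Subgroup.closure (Set.range fun x : 𝟙_ (Over (Spec (CommRingCat.of k))) ⟶ X => x ≫ f) : Set _) ⊆
      closure (((Set.range fun x : 𝟙_ (Over (Spec (CommRingCat.of k))) ⟶ X => x ≫ f) ∪
        (Set.range fun x : 𝟙_ (Over (Spec (CommRingCat.of k))) ⟶ X => x ≫ f)⁻¹) ^ n))
    (hd : Dense (wordSet f)) :
    ∀ c : G.left, IsMaxPt c → ∃ ε : Fin n → Bool, c ∈ Set.range (prodWord f (proj X n) ε).left := by
  let S := Set.range fun x : 𝟙_ (Over (Spec (CommRingCat.of k))) ⟶ X => x ≫ f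
  intro c hc
  have hsub : ∀ (w : Word) (p : 𝟙_ _ ⟶ w.obj X), p ≫ w.hom f ∈ Subgroup.closure S := by
    intro w
    induction w with
    | one =>
      intro p
      rw [show Word.hom f .one = (1 : 𝟙_ _ ⟶ G) from MonObj.one_eq_one _, MonObj.comp_one]
      exact one_mem _
    | gen => exact fun p => Subgroup.subset_closure ⟨p, rfl⟩
    | inv a ih =>
      intro p
      show p ≫ (a.hom f)⁻¹ ∈ _
      rw [GrpObj.comp_inv]
      exact inv_mem (ih p)
    | mul a b iha ihb =>
      intro p
      show p ≫ ((fst _ _ ≫ a.hom f) * (snd _ _ ≫ b.hom f)) ∈ _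
      rw [MonObj.comp_mul, ← Category.assoc, ← Category.assoc]
      exact mul_mem (iha _) (ihb _)
  have hT : ev '' ((S ∪ S⁻¹) ^ n) ⊆ ⋃ ε : Fin n → Bool, Set.range (prodWord f (proj X n) ε).left := by
    rintro _ ⟨g, hg, rfl⟩
    obtain ⟨t, rfl⟩ := Set.mem_pow.mp hg
    have key : ∀ j, ∃ (z : 𝟙_ _ ⟶ X) (b : Bool), (t j : 𝟙_ _ ⟶ G) = if b then z ≫ f else (z ≫ f)⁻¹ := fun j => by
      obtain ⟨z, hz⟩ | ⟨z, hz⟩ := (t j).2
      · exact ⟨z, true, hz.symm⟩
      · exact ⟨z, false, by simpa using congrArg (·⁻¹) hz.symm⟩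
    choose z b hzb using key
    obtain ⟨Φ, hΦ⟩ := exists_tuple n z
    refine Set.mem_iUnion.mpr ⟨b, Φ.left (IsLocalRing.closedPoint k), ?_⟩
    rw [← left_comp_apply, comp_prodWord]
    simp only [hΦ]
    rw [prodWord, ← funext hzb]
  have hdense : c ∈ closure (⋃ ε : Fin n → Bool, Set.range (prodWord f (proj X n) ε).left) := by
    refine mem_closure_iff.mpr fun V hV hcV => ?_
    obtain ⟨_, hV', hw⟩ := hd.inter_open_nonempty V hV ⟨c, hcV⟩
    obtain ⟨w, x, rfl⟩ := Set.mem_iUnion.mp hw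
    have := locallyOfFiniteType_obj (X := X) w
    obtain ⟨p, -, hp⟩ := KPoints.exists_ev_mem (G := w.obj X) (hV.preimage (w.hom f).left.continuous)
      isClosed_univ (Z := Set.univ) ⟨x, trivial, hV'⟩
    have := image_closure_subset_closure_image isInducing_ev.continuous ⟨_, hn (hsub w p), rfl⟩
    obtain ⟨v, hvV, hv⟩ := mem_closure_iff.mp this V hV hp
    exact ⟨v, hvV, hT hv⟩
  rw [closure_iUnion_of_finite] at hdense
  obtain ⟨ε, hε⟩ := Set.mem_iUnion.mp hdense
  have : QuasiCompact (prodWord f (proj X n) ε).left := by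
    have := quasiCompact_pow (X := X) n
    have : QuasiCompact ((prodWord f (proj X n) ε).left ≫ G.hom) := by rw [Over.w]; infer_instance
    have : IsSeparated G.hom :=
      (isSeparated_iff G.hom).mpr ((GrpSchLib.diagonal_iff_unit @IsClosedImmersion).mpr inferInstance)
    exact QuasiCompact.of_comp _ G.hom
  obtain ⟨t, ht⟩ := SGAHom20.exists_specializes_of_mem_closure _ hε
  exact ⟨ε, t, hc _ ht⟩

theorem exists_underWord_bound_of {n : ℕ}
    (hn : (Subgroup.closure (Set.range fun x : 𝟙_ (Over (Spec (CommRingCat.of k))) ⟶ X => x ≫ f) : Set _) ⊆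
      closure (((Set.range fun x : 𝟙_ (Over (Spec (CommRingCat.of k))) ⟶ X => x ≫ f) ∪
        (Set.range fun x : 𝟙_ (Over (Spec (CommRingCat.of k))) ⟶ X => x ≫ f)⁻¹) ^ n))
    (hd : Dense (wordSet f)) : ∃ N : ℕ, ∀ y : G.left, UnderWord f N y := by
  refine ⟨n + n, fun y => ?_⟩
  obtain ⟨ε, ε', p, hp⟩ := forall_mem_range_mul (fun _ : Fin n → Bool => pow X n)
    (fun ε => prodWord f (proj X n) ε) (exists_maxPt_bound f hn hd) y
  refine ⟨pow X n ⊗ pow X n, p, Fin.append (fun j => fst _ _ ≫ proj X n j) (fun j => snd _ _ ≫ proj X n j),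
    Fin.append ε ε', ?_⟩
  rw [prodWord_append, ← comp_prodWord, ← comp_prodWord]
  exact hp

theorem exists_underWord_bound
    (h1 : (1 : 𝟙_ (Over (Spec (CommRingCat.of k))) ⟶ G) ∈ Set.range fun x : 𝟙_ _ ⟶ X => x ≫ f)
    (hpre : IsPreconnected (Set.range fun x : 𝟙_ _ ⟶ X => x ≫ f)) (hd : Dense (wordSet f)) :
    ∃ N : ℕ, ∀ y : G.left, UnderWord f N y :=
  exists_underWord_bound_of f (exists_closure_bound f h1 hpre).choose_spec hd

end AlgClosed

section Descent

variable {K : Type u} [Field K] (φ : k →+* K) (f : X ⟶ G)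

theorem exists_bc_word : ∀ w : Word,
    ∃ l : bc (w.obj X) φ ⟶ w.obj (bc X φ),
      l ≫ w.hom (G := bc G φ) ((Over.pullback (Spec.map (CommRingCat.ofHom φ))).map f) =
        (Over.pullback (Spec.map (CommRingCat.ofHom φ))).map (w.hom f)
  | .one => ⟨toUnit _, by
      rw [show Word.hom f .one = (1 : 𝟙_ _ ⟶ G) from MonObj.one_eq_one _, Functor.map_one,
        show Word.hom ((Over.pullback (Spec.map (CommRingCat.ofHom φ))).map f) .one = (1 : 𝟙_ _ ⟶ bc G φ) from MonObj.one_eq_one _, MonObj.comp_one]⟩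
  | .gen => ⟨𝟙 _, Category.id_comp _⟩
  | .inv a => by
      obtain ⟨l, hl⟩ := exists_bc_word a
      refine ⟨l, ?_⟩
      show l ≫ (a.hom _)⁻¹ = _
      rw [GrpObj.comp_inv, hl, show Word.hom f (.inv a) = (a.hom f)⁻¹ from rfl, Functor.map_inv']
  | .mul a b => by
      obtain ⟨l, hl⟩ := exists_bc_word a
      obtain ⟨l', hl'⟩ := exists_bc_word b
      refine ⟨lift ((Over.pullback (Spec.map (CommRingCat.ofHom φ))).map (fst (a.obj X) (b.obj X)) ≫ l)
        ((Over.pullback (Spec.map (CommRingCat.ofHom φ))).map (snd (a.obj X) (b.obj X)) ≫ l'), ?_⟩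
      show _ ≫ ((fst _ _ ≫ a.hom _) * (snd _ _ ≫ b.hom _)) = _
      rw [MonObj.comp_mul, lift_fst_assoc, lift_snd_assoc, Category.assoc, Category.assoc, hl, hl',
        show Word.hom f (.mul a b) = (fst _ _ ≫ a.hom f) * (snd _ _ ≫ b.hom f) from rfl, Functor.map_mul,
        Functor.map_comp, Functor.map_comp]

theorem dense_wordSet_bc (hd : Dense (wordSet f)) :
    Dense (wordSet (G := bc G φ) ((Over.pullback (Spec.map (CommRingCat.ofHom φ))).map f)) := by
  have := SGAHom20.universallyOpen_bcProj G φ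
  refine (hd.preimage (bcProj G φ).isOpenMap).mono fun z hz => ?_
  obtain ⟨w, p, hp⟩ := Set.mem_iUnion.mp hz
  obtain ⟨s, -, hs⟩ := Scheme.exists_preimage_of_isPullback (SGAHom20.isPullback_bcMap (w.hom f) φ) p z hp
  obtain ⟨l, hl⟩ := exists_bc_word φ f w
  refine Set.mem_iUnion.mpr ⟨w, l.left s, ?_⟩
  rw [← left_comp_apply, hl]
  exact hs

theorem exists_bc_tuple {T : Over (Spec (CommRingCat.of K))} : ∀ (n : ℕ) (x : Fin n → (T ⟶ bc X φ)),
    ∃ Φ : T ⟶ bc (pow X n) φ, ∀ j, Φ ≫ (Over.pullback (Spec.map (CommRingCat.ofHom φ))).map (proj X n j) = x j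
  | 0, _ => ⟨toUnit T ≫ Functor.LaxMonoidal.ε (Over.pullback (Spec.map (CommRingCat.ofHom φ))), fun j => j.elim0⟩
  | n + 1, x => by
      obtain ⟨Φ, hΦ⟩ := exists_bc_tuple n (fun j => x j.succ)
      refine ⟨lift (x 0) Φ ≫ Functor.LaxMonoidal.μ (Over.pullback (Spec.map (CommRingCat.ofHom φ))) X (pow X n),
        Fin.cases ?_ fun j => ?_⟩
      · show (lift (x 0) Φ ≫ _) ≫ (Over.pullback _).map (fst X (pow X n)) = _
        rw [Category.assoc, Functor.Monoidal.μ_fst, lift_fst]
      · show (lift (x 0) Φ ≫ _) ≫ (Over.pullback _).map (snd X (pow X n) ≫ proj X n j) = _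
        rw [Category.assoc, Functor.map_comp, Functor.Monoidal.μ_snd_assoc, lift_snd_assoc, hΦ]

theorem underWord_of_bc {n : ℕ} {y : (bc G φ).left}
    (h : UnderWord (G := bc G φ) ((Over.pullback (Spec.map (CommRingCat.ofHom φ))).map f) n y) :
    UnderWord f n (bcProj G φ y) := by
  obtain ⟨T, p, x, ε, rfl⟩ := h
  obtain ⟨Φ, hΦ⟩ := exists_bc_tuple φ n x
  refine ⟨pow X n, bcProj (pow X n) φ (Φ.left p), proj X n, ε, ?_⟩
  let F := Over.pullback (Spec.map (CommRingCat.ofHom φ))
  let h : (pow X n ⟶ G) →* (bc (pow X n) φ ⟶ bc G φ) :=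
    MonoidHom.mk' (fun a => F.map a) (fun a b => Functor.map_mul F a b)
  have e : prodWord (G := bc G φ) (F.map f) x ε = Φ ≫ h (prodWord f (proj X n) ε) := by
    rw [show h (prodWord f (proj X n) ε) = prodWord (G := bc G φ) (F.map f) (fun j => F.map (proj X n j)) ε by
      rw [prodWord, map_list_prod, List.map_ofFn, prodWord]
      refine congrArg List.prod (congrArg List.ofFn (funext fun j => ?_))
      show F.map (if ε j then proj X n j ≫ f else (proj X n j ≫ f)⁻¹) = _
      split_ifs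
      · rw [Functor.map_comp]
      · rw [Functor.map_inv', Functor.map_comp], comp_prodWord]
    simp only [hΦ, F]
  show _ = bcProj G φ _
  rw [e, left_comp_apply]
  exact (SGAHom20.bc_map_apply (prodWord f (proj X n) ε) φ (Φ.left p)).symm

end Descent

/-- A geometrically connected scheme of finite type through the unit: words of one length cover the group. -/
theorem exists_underWord_of_geometricallyConnected [LocallyOfFiniteType G.hom] [LocallyOfFiniteType X.hom]
    [QuasiCompact X.hom] [GeometricallyConnected X.hom] (f : X ⟶ G)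
    (he : ∃ x : X.left, f.left x = η[G].left (IsLocalRing.closedPoint k)) (hd : Dense (wordSet f)) :
    ∃ N : ℕ, ∀ y : G.left, UnderWord f N y := by
  let φ := algebraMap k (AlgebraicClosure k)
  let fK : bc X φ ⟶ bc G φ := (Over.pullback (Spec.map (CommRingCat.ofHom φ))).map f
  have : LocallyOfFiniteType (bc G φ).hom :=
    inferInstanceAs (LocallyOfFiniteType (Limits.pullback.snd G.hom _))
  have : LocallyOfFiniteType (bc X φ).hom :=
    inferInstanceAs (LocallyOfFiniteType (Limits.pullback.snd X.hom _))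
  have : QuasiCompact (bc X φ).hom := inferInstanceAs (QuasiCompact (Limits.pullback.snd X.hom _))
  have : ConnectedSpace (bc X φ).left :=
    GeometricallyConnected.geometrically_connectedSpace (f := X.hom) _ _ _ (.of_hasPullback _ _)
  obtain ⟨x, hx⟩ := he
  obtain ⟨s, -, hs⟩ := Scheme.exists_preimage_of_isPullback (SGAHom20.isPullback_bcMap f φ) x
    (η[bc G φ].left (IsLocalRing.closedPoint (AlgebraicClosure k))) (by rw [hx, SGAHom20.bcProj_unit])
  obtain ⟨p, hp⟩ := exists_point_over fK (η[bc G φ]) ⟨s, hs⟩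
  have h1 : (1 : 𝟙_ _ ⟶ bc G φ) ∈ Set.range fun x : 𝟙_ _ ⟶ bc X φ => x ≫ fK :=
    ⟨p, by simp only [hp]; simp [MonObj.one_eq_one]⟩
  have hpre : IsPreconnected (Set.range fun x : 𝟙_ _ ⟶ bc X φ => x ≫ fK) := by
    rw [← Set.image_univ]
    exact isPreconnected_univ_kpoints.image _ (continuous_comp fK).continuousOn
  obtain ⟨N, hN⟩ := exists_underWord_bound fK h1 hpre (dense_wordSet_bc φ f hd)
  refine ⟨N, fun y => ?_⟩
  have : Surjective (Spec.map (CommRingCat.ofHom φ)) := GrpSchLib.surjective_spec_map_field _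
  obtain ⟨y', rfl⟩ := (bcProj G φ).surjective y
  exact underWord_of_bc φ f (hN y')

end Groth.Agent.SGAGen20
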